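import Cfsg.Agent.LocalThree.Order9.Exc

/-!
No perfect group has a self-centralizing Sylow subgroup of order nine with four-group automizer
containing all centralizers.
-/

set_option autoImplicit false
set_option maxRecDepth 8000

namespace Cfsg.Lib.Order9

open Subgroup Cfsg.Lib.Chars Cfsg.Lib.GramSplit

universe u

def gram4 : Mat :=
  [[2, 0, 0, 1, 1], [0, 3, 1, 1, -1], [0, 1, 2, 0, 1], [1, 1, 0, 3, -1], [1, -1, 1, -1, 4]]
def sols4 : List (List Row) :=
  [[[0, 0, 0, 0, 1], [0, 0, 0, 1, -1], [0, 0, 0, 1, 0], [0, 0, 1, 0, 1], [0, 1, 1, 0, 0], [1, -1, 0, 0, 1], [1, 1, 0, 1, 0]],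
    [[0, 0, 0, 0, 1], [0, 0, 0, 1, 0], [0, 0, 1, 0, 1], [0, 1, 0, 0, 0], [0, 1, 0, 1, -1], [0, 1, 1, 0, 0], [1, 0, 0, 0, 1], [1, 0, 0, 1, 0]],
    [[0, 0, 0, 0, 1], [0, 0, 1, -1, 1], [0, 1, 0, 0, -1], [0, 1, 0, 0, 0], [0, 1, 1, 1, 0], [1, 0, 0, 0, 1], [1, 0, 0, 1, 0]],
    [[0, 0, 0, 1, -1], [0, 0, 1, 0, 1], [0, 1, 0, 0, -1], [0, 1, 0, 1, 0], [0, 1, 1, 0, 0], [1, 0, 0, 0, 1], [1, 0, 0, 1, 0]],
    [[0, 0, 0, 1, -1], [0, 0, 1, 0, 1], [0, 1, 0, 0, 0], [0, 1, 0, 1, -1], [0, 1, 1, 0, 0], [1, 0, 0, 0, 0], [1, 0, 0, 1, 1]],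
    [[0, 0, 0, 1, 0], [0, 0, 1, 0, 0], [0, 1, 0, 0, -1], [0, 1, 0, 1, -1], [0, 1, 1, 0, 1], [1, 0, 0, 0, 1], [1, 0, 0, 1, 0]]]
def cert4 : Cert :=
  (.branch [1,-1,-1,0,0] (.last 0 []) (.branch [1,-1,-1,1,0] (.last 0 []) (.branch [1,-1,0,0,0] (.last 0 []) (.branch
  [1,-1,0,0,1] (.branch [1,1,0,1,0] (.branch [0,1,1,0,0] (.branch [0,0,1,0,1] (.branch [0,0,0,1,-1] (.branch
  [0,0,0,1,0] (.branch [0,0,0,0,1] .done (.last 4 [])) (.last 3 [])) (.branch [0,0,0,1,0] (.last 3 []) (.last 3 [])))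
  (.last 2 [])) (.last 1 [])) (.last 0 [])) (.branch [1,-1,0,1,0] (.last 0 []) (.branch [1,-1,0,1,1] (.last 0 [])
  (.branch [1,0,-1,0,0] (.last 0 []) (.branch [1,0,-1,1,0] (.last 0 []) (.branch [1,0,0,0,0] (.branch [1,0,0,1,1]
  (.branch [0,0,0,1,-1] (.branch [0,1,0,1,-1] (.branch [0,0,1,0,1] (.branch [0,1,1,0,0] (.branch [0,1,0,0,0] .done
  (.last 1 [])) (.last 2 [])) (.last 4 [])) (.last 3 [])) (.branch [0,0,1,-1,1] (.last 2 []) (.branch [0,1,0,1,-1]
  (.last 3 []) (.last 3 [])))) (.last 0 [])) (.branch [1,0,0,0,1] (.branch [1,0,0,1,0] (.branch [0,1,0,0,-1] (.branch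
  [0,1,0,0,-1] (.last 1 []) (.branch [0,1,0,0,0] (.branch [0,1,1,1,0] (.branch [0,0,1,-1,1] (.branch [0,0,0,0,1]
  .done (.last 4 [])) (.last 2 [])) (.last 1 [])) (.branch [0,1,0,0,1] (.last 1 []) (.branch [0,1,0,1,-1] (.branch
  [0,1,1,0,1] (.branch [0,0,1,0,0] (.branch [0,0,0,1,0] .done (.last 3 [])) (.last 2 [])) (.last 1 [])) (.branch
  [0,1,0,1,0] (.branch [0,1,1,0,0] (.branch [0,0,1,0,1] (.branch [0,0,0,1,-1] .done (.last 3 [])) (.last 2 []))
  (.last 1 [])) (.branch [0,1,1,0,0] (.last 1 []) (.branch [0,1,1,0,1] (.last 1 []) (.branch [0,1,1,1,0] (.last 1 [])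
  (.last 1 []))))))))) (.branch [0,1,0,0,0] (.branch [0,1,0,0,0] (.last 1 []) (.branch [0,1,0,1,-1] (.branch
  [0,1,1,0,0] (.branch [0,0,1,0,1] (.branch [0,0,0,1,0] (.branch [0,0,0,0,1] .done (.last 4 [])) (.last 3 [])) (.last
  2 [])) (.last 1 [])) (.branch [0,1,0,1,0] (.last 1 []) (.branch [0,1,1,0,0] (.last 1 []) (.branch [0,1,1,1,0]
  (.last 1 []) (.last 1 [])))))) (.branch [0,1,0,0,1] (.branch [0,1,0,1,-1] (.last 1 []) (.last 1 [])) (.branch
  [0,1,0,1,-1] (.branch [0,0,0,1,0] (.branch [0,1,1,0,0] (.last 1 []) (.branch [0,1,1,0,1] (.last 1 []) (.last 1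
  []))) (.last 3 [])) (.branch [0,1,0,1,0] (.branch [0,1,1,0,0] (.last 1 []) (.last 1 [])) (.branch [0,1,1,0,0]
  (.last 1 []) (.branch [0,1,1,0,1] (.last 1 []) (.branch [0,1,1,1,0] (.last 1 []) (.last 1 []))))))))) (.last 0 []))
  (.branch [1,0,0,1,0] (.last 0 []) (.branch [1,0,0,1,1] (.last 0 []) (.branch [1,0,1,0,0] (.last 0 []) (.branch
  [1,0,1,0,1] (.last 0 []) (.branch [1,0,1,1,0] (.last 0 []) (.branch [1,0,1,1,1] (.last 0 []) (.branch [1,1,0,0,0]
  (.last 0 []) (.branch [1,1,0,0,1] (.last 0 []) (.branch [1,1,0,1,0] (.last 0 []) (.branch [1,1,0,1,1] (.last 0 [])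
  (.branch [1,1,1,0,0] (.last 0 []) (.branch [1,1,1,0,1] (.last 0 []) (.branch [1,1,1,1,0] (.last 0 []) (.branch
  [1,1,1,1,1] (.last 0 []) (.last 0 [])))))))))))))))))))))))))

theorem check4 : check 5 sols4 [] cert4 gram4 [] [] = true := by decide +kernel

def table4 : Table K4 5 3 where
  vf := vf4
  gram := gram4
  prin := ![1, 0, 1, 0, 1]
  rep := ![⟨(1, 0), 1⟩, ⟨(0, 1), 1⟩, ⟨(1, 1), 1⟩]
  cl k := if k.v.2 = 0 then 0 else if k.v.1 = 0 then 1 else 2
  coef := ![![3, 1, 0, -2, -2], ![0, -2, 3, 1, -2], ![0, 1, 0, 1, 1]]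
  cs := ![18, 18, 9]

theorem model4 : IsModel K4 :=
  ⟨by decide +kernel, by decide +kernel, by decide +kernel, by decide +kernel⟩

theorem isTable4 : IsTable table4 :=
  ⟨gen_vf4, by decide +kernel, by decide +kernel, by decide +kernel, by decide +kernel, by decide +kernel,
    by decide +kernel, by decide +kernel⟩

theorem gen_phi2 : Cfsg.IsGeneralizedCharacter K4 (fun k => (phi2 k : ℂ)) :=
  gen_subInt (gen_permInt (X := Ln2) (fun k => _) fun _ => rfl) (gen_linInt (fun _ => 1) rfl (fun _ _ => rfl))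

theorem wgt4 : phi2 1 = 2 ∧ table4.wgt phi2 0 = 4 ∧ table4.wgt phi2 1 = -2 ∧ table4.wgt phi2 2 = -4 := by
  decide +kernel

/-- A reciprocal is small. -/
theorem inv_bound {x : ℤ} {L : ℕ} (hL : 0 < L) (hx : L ≤ x.natAbs) :
    |1 / (x : ℚ)| ≤ 1 / (L : ℚ) := by
  have h : (L : ℚ) ≤ |(x : ℚ)| := by
    rw [← Int.cast_abs, Int.abs_eq_natAbs, Int.cast_natCast]
    exact_mod_cast hx
  rw [abs_div, abs_one]
  exact one_div_le_one_div_of_le (by exact_mod_cast hL) h

/-- A degree is determined by its reciprocal. -/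
theorem recip_inj {x y : ℤ} (h : 1 / (y : ℚ) - 1 / (x : ℚ) = 0) : y = x := by
  simp only [one_div, sub_eq_zero, inv_inj] at h
  exact_mod_cast h

/-- The exceptional degree relation with a member of absolute value one excluded. -/
theorem omega_case {x y : ℤ} (hx : x % 9 = 4) (hy : y % 9 = 1)
    (h : (1 : ℚ) - 8 / x + 1 / y = 0) : x = 4 ∧ y = 1 := by
  have hx0 : (x : ℚ) ≠ 0 := Int.cast_ne_zero.2 (by omega)
  have hy0 : (y : ℚ) ≠ 0 := Int.cast_ne_zero.2 (by omega)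
  have e : (y + 1) * x = 8 * y := by
    apply Int.cast_injective (α := ℚ)
    push_cast
    field_simp at h
    linarith
  have hd : (y + 1) ∣ 8 := ⟨8 - x, by linear_combination e⟩
  have hb : (y + 1).natAbs ≤ 8 := Nat.le_of_dvd (by norm_num) (by
    have := Int.natAbs_dvd_natAbs.2 hd
    simpa using this)
  have hys : y = 1 ∨ y = -8 := by omega
  rcases hys with rfl | rfl
  · constructor <;> omega
  · omega

variable {G : Type u} [Group G] [Finite G]

/-- The remaining value after the first member has degree four. -/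
theorem omega_rest {z : ℤ} {k : ℕ} (hz : z % 9 = 8) (hk : 10 ≤ k) (h : (k : ℚ) * (3 - 6 / z) = 9) : False := by
  have hk' : (10 : ℚ) ≤ k := by exact_mod_cast hk
  have h0 : (1 / 3 : ℚ) < 1 / (z : ℚ) := by
    have : (3 : ℚ) - 6 / z ≤ 9 / 10 := by nlinarith
    rw [show (6 : ℚ) / z = 6 * (1 / z) by ring] at this
    linarith
  have hpos : 0 < z := by
    by_contra hc
    have : 1 / (z : ℚ) ≤ 0 := div_nonpos_of_nonneg_of_nonpos (by norm_num) (by exact_mod_cast not_lt.1 hc)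
    linarith
  have : z < 3 := by
    by_contra hc
    have : 1 / (z : ℚ) ≤ 1 / 3 := one_div_le_one_div_of_le (by norm_num) (by exact_mod_cast not_lt.1 hc)
    linarith
  omega

set_option maxHeartbeats 4000000 in
/-- The four-group case. -/
theorem klein_false (S : Setup G K4)
    (hnn : normalizer ((S.P : Subgroup G) : Set G) ≠ ⊤) : False := by
  classical
  have := Fintype.ofFinite G
  obtain ⟨sol, L, hsol, hL, hdeg, htri, hmem⟩ := S.decomp model4 isTable4 check4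
  obtain ⟨w0, w1, w2, w3⟩ := wgt4
  have hfact : ∀ p ∈ L, (2 * p.2 + 4 * table4.ev 0 p.1 - 2 * table4.ev 1 p.1 - 4 * table4.ev 2 p.1) % 9 = 0 ∧
      p.2 ≠ 0 := by
    intro p hp
    obtain ⟨χ, σ, h1, hσ, hx, hc, -⟩ := hmem p hp
    refine ⟨?_, by
      have := deg_irr_pos χ
      rcases mul_self_eq_one_iff.1 hσ with r | r <;> subst r <;> omega⟩
    have := hc phi2 gen_phi2
    simp only [Fin.sum_univ_three, w0, w1, w2, w3] at this
    omega
  -- the index
  obtain ⟨k, hk⟩ : ∃ k, k = (normalizer ((S.P : Subgroup G) : Set G)).index := ⟨_, rfl⟩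
  have hk10 : 10 ≤ k := by
    have := S.index_mod model4
    have : k ≠ 1 := fun e => hnn (Subgroup.index_eq_one.1 (hk ▸ e))
    omega
  have hG : Nat.card G = 36 * k := by rw [hk, S.card_eq model4]; rfl
  -- the equations
  have hA : table4.tri L 0 0 1 = 0 := by
    have h := S.equation model4 (a := table4.rep 0) (b := table4.rep 0) (c := table4.rep 1) (ca := 18) (cb := 18)
      (N := 0) (isTable4.rep_cube 0) (isTable4.rep_cube 0) (isTable4.rep_cube 1) (by decide +kernel)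
      (by decide +kernel) (by decide +kernel) (by decide +kernel)
    rw [htri] at h
    simpa [Nat.card_pos.ne'] using h.symm
  have hA' : table4.tri L 1 1 0 = 0 := by
    have h := S.equation model4 (a := table4.rep 1) (b := table4.rep 1) (c := table4.rep 0) (ca := 18) (cb := 18)
      (N := 0) (isTable4.rep_cube 1) (isTable4.rep_cube 1) (isTable4.rep_cube 0) (by decide +kernel)
      (by decide +kernel) (by decide +kernel) (by decide +kernel)
    rw [htri] at h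
    simpa [Nat.card_pos.ne'] using h.symm
  have hB : (k : ℚ) * table4.tri L 0 1 2 = 9 := by
    have h := S.equation model4 (a := table4.rep 0) (b := table4.rep 1) (c := table4.rep 2) (ca := 18) (cb := 18)
      (N := 1) (isTable4.rep_cube 0) (isTable4.rep_cube 1) (isTable4.rep_cube 2) (by decide +kernel)
      (by decide +kernel) (by decide +kernel) (by decide +kernel)
    rw [htri, hG] at h
    have : ((324 : ℚ) : ℂ) = ((36 * (k : ℚ) * table4.tri L 0 1 2 : ℚ) : ℂ) := by push_cast at h ⊢; linear_combination h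
    have := Rat.cast_injective this
    linarith
  simp only [sols4, List.mem_cons, List.not_mem_nil, or_false] at hsol
  have hd0 := hdeg 0; have hd1 := hdeg 1; have hd2 := hdeg 2; have hd3 := hdeg 3; have hd4 := hdeg 4
  rcases hsol with rfl | rfl | rfl | rfl | rfl | rfl <;>
    simp only [List.map_eq_cons_iff, List.map_eq_nil_iff] at hL
  · obtain ⟨⟨_, x0⟩, _, rfl, rfl, ⟨_, x1⟩, _, rfl, rfl, ⟨_, x2⟩, _, rfl, rfl, ⟨_, x3⟩, _, rfl, rfl,
      ⟨_, x4⟩, _, rfl, rfl, ⟨_, x5⟩, _, rfl, rfl, ⟨_, x6⟩, _, rfl, rfl, rfl⟩ := hL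
    simp only [List.forall_mem_cons] at hfact
    obtain ⟨f0, f1, f2, f3, f4, f5, f6, -⟩ := hfact
    simp [table4, Table.ev, Fin.sum_univ_five, ent] at f0 f4 f6
    simp [table4, Table.tri, Table.ev, Fin.sum_univ_five, ent] at hA hA' hB
    obtain ⟨rfl, rfl⟩ := omega_case (x := x0) (y := x4) (by omega) (by omega)
      (by linear_combination (1 / 3 : ℚ) * hA + (2 / 3 : ℚ) * hA')
    norm_num at hA hA' hB
    refine omega_rest (z := x6) (k := k) (by omega) hk10 ?_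
    linear_combination hB + (k : ℚ) / 3 * hA - (k : ℚ) / 3 * hA'
  · obtain ⟨⟨_, x0⟩, _, rfl, rfl, ⟨_, x1⟩, _, rfl, rfl, ⟨_, x2⟩, _, rfl, rfl, ⟨_, x3⟩, _, rfl, rfl,
      ⟨_, x4⟩, _, rfl, rfl, ⟨_, x5⟩, _, rfl, rfl, ⟨_, x6⟩, _, rfl, rfl, ⟨_, x7⟩, _, rfl, rfl, rfl⟩ := hL
    simp only [List.forall_mem_cons] at hfact
    obtain ⟨f0, f1, f2, f3, f4, f5, f6, f7, -⟩ := hfact
    simp [table4, Table.ev, Fin.sum_univ_five, ent] at f0 f1 f2 f3 f4 f5 f6 f7
    simp [table4, Table.tri, Table.ev, Fin.sum_univ_five, ent] at hA hA' hB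
    simp [table4, ent] at hd0 hd2
    have lo : ∀ z : ℤ, (2 * z - 2) % 9 = 0 → (-1 / 8 : ℚ) ≤ (z : ℚ)⁻¹ := by
      intro z hz
      by_cases e : z = 1
      · subst e; norm_num
      · have := (abs_le.1 (inv_bound (x := z) (L := 8) (by norm_num) (by omega))).1
        simp only [one_div, Nat.cast_ofNat] at this
        linarith
    have hw4 := lo x4 (by omega)
    have hw5 := lo x5 (by omega)
    have hw7 := lo x7 (by omega)
    have hk' : (10 : ℚ) ≤ k := by exact_mod_cast hk10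
    have hkne : (k : ℚ) ≠ 0 := by linarith
    have hk0 : 9 * (k : ℚ)⁻¹ ≤ 9 / 10 := by
      have : (k : ℚ)⁻¹ ≤ (10 : ℚ)⁻¹ := inv_anti₀ (by norm_num) hk'
      linarith
    have hk0' : 0 < (k : ℚ)⁻¹ := inv_pos.2 (by linarith)
    have hB' := congrArg (fun t => (k : ℚ)⁻¹ * t) hB
    simp only [inv_mul_cancel_left₀ hkne] at hB'
    -- the first member has degree four
    have hx0 : x0 = 4 := by
      have h' : (1 / 14 : ℚ) < 1 / (x0 : ℚ) := by
        simp only [div_eq_mul_inv] at hA hA' hB' ⊢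
        linarith [hw4, hw5, hw7]
      have hpos : 0 < x0 := by
        by_contra hc
        have : 1 / (x0 : ℚ) ≤ 0 := div_nonpos_of_nonneg_of_nonpos (by norm_num) (by exact_mod_cast not_lt.1 hc)
        linarith
      have : x0 < 14 := by
        by_contra hc
        have : 1 / (x0 : ℚ) ≤ 1 / 14 := one_div_le_one_div_of_le (by norm_num) (by exact_mod_cast not_lt.1 hc)
        linarith
      have : x0 = 4 ∨ x0 = 13 := by omega
      rcases this with e | e
      · exact e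
      · exfalso
        rw [e] at h' hA hA' hB'
        simp only [div_eq_mul_inv] at hA hA' hB'
        norm_num at hA hA' hB'
        linarith [hw4, hw5, hw7]
    subst hx0
    have hne : x4 ≠ 1 ∧ x5 ≠ 1 ∧ x7 ≠ 1 := by
      refine ⟨fun e => ?_, fun e => ?_, fun e => ?_⟩ <;> subst e <;>
        (simp only [div_eq_mul_inv] at hA hA' hB') <;> norm_num at hA hA' hB' <;> linarith [hw4, hw5, hw7]
    simp [table4, ent] at hd0 hd3 hd4
    have h6 := abs_le.1 (inv_bound (x := x6) (L := 7) (by norm_num) (by omega))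
    simp only [one_div, Nat.cast_ofNat] at h6
    have h3 : (1 / 5 : ℚ) ≤ 1 / (x3 : ℚ) := by
      simp only [div_eq_mul_inv] at hA hA' hB' ⊢
      norm_num at hA hA' hB'
      linarith [h6.2]
    have hpos : 0 < x3 := by
      by_contra hc
      have : 1 / (x3 : ℚ) ≤ 0 := div_nonpos_of_nonneg_of_nonpos (by norm_num) (by exact_mod_cast not_lt.1 hc)
      linarith
    have : x3 < 6 := by
      by_contra hc
      have : 1 / (x3 : ℚ) ≤ 1 / 6 := one_div_le_one_div_of_le (by norm_num) (by exact_mod_cast not_lt.1 hc)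
      linarith
    omega
  · obtain ⟨⟨_, x0⟩, _, rfl, rfl, ⟨_, x1⟩, _, rfl, rfl, ⟨_, x2⟩, _, rfl, rfl, ⟨_, x3⟩, _, rfl, rfl,
      ⟨_, x4⟩, _, rfl, rfl, ⟨_, x5⟩, _, rfl, rfl, ⟨_, x6⟩, _, rfl, rfl, rfl⟩ := hL
    simp only [List.forall_mem_cons] at hfact
    obtain ⟨f0, f1, f2, f3, f4, f5, f6, -⟩ := hfact
    simp [table4, Table.ev, Fin.sum_univ_five, ent] at f0 f4 f6
    simp [table4, Table.tri, Table.ev, Fin.sum_univ_five, ent] at hA hA' hB
    obtain ⟨rfl, rfl⟩ := omega_case (x := x0) (y := x6) (by omega) (by omega)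
      (by linear_combination (2 / 3 : ℚ) * hA + (1 / 3 : ℚ) * hA')
    norm_num at hA hA' hB
    refine omega_rest (z := x4) (k := k) (by omega) hk10 ?_
    linear_combination hB - (k : ℚ) / 3 * hA + (k : ℚ) / 3 * hA'
  · obtain ⟨⟨_, x0⟩, _, rfl, rfl, ⟨_, x1⟩, _, rfl, rfl, ⟨_, x2⟩, _, rfl, rfl, ⟨_, x3⟩, _, rfl, rfl,
      ⟨_, x4⟩, _, rfl, rfl, ⟨_, x5⟩, _, rfl, rfl, ⟨_, x6⟩, _, rfl, rfl, rfl⟩ := hL
    simp only [List.forall_mem_cons] at hfact
    obtain ⟨f0, f1, f2, f3, f4, f5, f6, -⟩ := hfact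
    simp [table4, Table.ev, Fin.sum_univ_five, ent] at f0 f1 f2 f3 f4 f5 f6
    simp [table4, Table.tri, Table.ev, Fin.sum_univ_five, ent] at hA hA'
    simp [table4, ent] at hd0 hd1 hd2 hd3
    obtain rfl : x5 = x1 := recip_inj (by linear_combination (-1 / 6 : ℚ) * hA + (1 / 6 : ℚ) * hA')
    have b3 := abs_le.1 (inv_bound (x := x3) (L := 4) (by norm_num) (by omega))
    simp only [one_div, Nat.cast_ofNat] at b3
    by_cases he : x4 = 1
    · obtain rfl : x5 = -2 := by omega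
      obtain rfl : x6 = 1 := by omega
      subst he
      simp only [div_eq_mul_inv] at hA
      norm_num at hA b3
      linarith [b3.1, b3.2]
    obtain rfl : x6 = x4 := by omega
    have b1 := abs_le.1 (inv_bound (x := x5) (L := 7) (by norm_num) (by omega))
    have b4 := abs_le.1 (inv_bound (x := x6) (L := 8) (by norm_num) (by omega))
    simp only [div_eq_mul_inv, Nat.cast_ofNat, one_mul] at hA hA' b1 b4
    linarith [b1.1, b1.2, b3.1, b3.2, b4.1, b4.2]
  · obtain ⟨⟨_, x0⟩, _, rfl, rfl, ⟨_, x1⟩, _, rfl, rfl, ⟨_, x2⟩, _, rfl, rfl, ⟨_, x3⟩, _, rfl, rfl,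
      ⟨_, x4⟩, _, rfl, rfl, ⟨_, x5⟩, _, rfl, rfl, ⟨_, x6⟩, _, rfl, rfl, rfl⟩ := hL
    simp only [List.forall_mem_cons] at hfact
    obtain ⟨f0, f1, f2, f3, f4, f5, f6, -⟩ := hfact
    simp [table4, Table.ev, Fin.sum_univ_five, ent] at f0 f1 f2 f3 f4 f5 f6
    simp [table4, Table.tri, Table.ev, Fin.sum_univ_five, ent] at hA hA'
    simp [table4, ent] at hd0 hd1 hd2 hd3
    obtain rfl : x2 = x1 := recip_inj (by linear_combination (-1 / 6 : ℚ) * hA + (1 / 6 : ℚ) * hA')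
    obtain rfl : x3 = 1 := by omega
    have b6 := abs_le.1 (inv_bound (x := x6) (L := 4) (by norm_num) (by omega))
    simp only [one_div, Nat.cast_ofNat] at b6
    by_cases he : x4 = 1
    · obtain rfl : x2 = -2 := by omega
      subst he
      simp only [div_eq_mul_inv] at hA
      norm_num at hA b6
      linarith [b6.1, b6.2]
    have b1 := abs_le.1 (inv_bound (x := x2) (L := 7) (by norm_num) (by omega))
    have b4 := abs_le.1 (inv_bound (x := x4) (L := 8) (by norm_num) (by omega))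
    simp only [div_eq_mul_inv, Nat.cast_ofNat, one_mul] at hA b1 b4
    norm_num at hA b1 b4
    linarith [b1.1, b1.2, b4.1, b4.2, b6.1, b6.2]
  · obtain ⟨⟨_, x0⟩, _, rfl, rfl, ⟨_, x1⟩, _, rfl, rfl, ⟨_, x2⟩, _, rfl, rfl, ⟨_, x3⟩, _, rfl, rfl,
      ⟨_, x4⟩, _, rfl, rfl, ⟨_, x5⟩, _, rfl, rfl, ⟨_, x6⟩, _, rfl, rfl, rfl⟩ := hL
    simp only [List.forall_mem_cons] at hfact
    obtain ⟨f0, f1, f2, f3, f4, f5, f6, -⟩ := hfact
    simp [table4, Table.ev, Fin.sum_univ_five, ent] at f0 f1 f2 f3 f4 f5 f6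
    simp [table4, Table.tri, Table.ev, Fin.sum_univ_five, ent] at hA hA'
    simp [table4, ent] at hd0 hd1 hd2 hd3
    obtain rfl : x5 = x0 := recip_inj (by linear_combination (-1 / 6 : ℚ) * hA + (1 / 6 : ℚ) * hA')
    obtain rfl : x3 = 1 := by omega
    have b4 := abs_le.1 (inv_bound (x := x4) (L := 4) (by norm_num) (by omega))
    simp only [one_div, Nat.cast_ofNat] at b4
    by_cases he : x6 = 1
    · obtain rfl : x5 = -2 := by omega
      subst he
      simp only [div_eq_mul_inv] at hA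
      norm_num at hA b4
      linarith [b4.1, b4.2]
    have b5 := abs_le.1 (inv_bound (x := x5) (L := 7) (by norm_num) (by omega))
    have b6 := abs_le.1 (inv_bound (x := x6) (L := 8) (by norm_num) (by omega))
    simp only [div_eq_mul_inv, Nat.cast_ofNat, one_mul] at hA b5 b6
    norm_num at hA b5 b6
    linarith [b4.1, b4.2, b5.1, b5.2, b6.1, b6.2]

end Cfsg.Lib.Order9
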