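import Cfsg.Agent.LocalThree.Order9.Setup

/-!
Coordinates for the normaliser of an elementary abelian Sylow subgroup of order nine.
-/

set_option autoImplicit false
set_option linter.unusedSectionVars false
set_option maxRecDepth 8000

namespace Cfsg.Lib.Order9

open Subgroup

universe u

variable {G : Type u} [Group G] [Finite G]

/-- Coordinates on a subgroup. -/
structure Coord (P : Subgroup G) where
  el : Vec → G
  mem : ∀ v, el v ∈ P
  add : ∀ v w, el (v + w) = el v * el w
  inj : Function.Injective el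
  surj : ∀ t ∈ P, ∃ v, el v = t

theorem val_cases : ∀ e : ZMod 3, e ≠ 0 → e.val = 1 ∨ e.val = 2 := by decide

theorem exists_coord (P : Subgroup G) (h9 : Nat.card P = 9) (hexp : ∀ a ∈ P, a * (a * a) = 1) :
    Nonempty (Coord P) := by
  have : Fact (Nat.Prime 3) := ⟨Nat.prime_three⟩
  have hcomm : IsMulCommutative P := IsPGroup.isMulCommutative_of_card_eq_prime_sq (p := 3) (by rw [h9]; rfl)
  have hc : ∀ a ∈ P, ∀ b ∈ P, a * b = b * a := fun a ha b hb =>
    congrArg Subtype.val (hcomm.is_comm.comm ⟨a, ha⟩ ⟨b, hb⟩)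
  have h3 : ∀ a ∈ P, a ^ 3 = 1 := fun a ha => by rw [pow_succ', pow_two, hexp a ha]
  obtain ⟨a, ha, ha1⟩ : ∃ a ∈ P, a ≠ 1 := by
    by_contra! h
    have : Nat.card P ≤ 1 := Finite.card_le_one_iff_subsingleton.2
      ⟨fun x y => Subtype.ext ((h x x.2).trans (h y y.2).symm)⟩
    omega
  obtain ⟨b, hb, hbz⟩ : ∃ b ∈ P, b ∉ zpowers a := by
    by_contra! h
    have := Subgroup.card_le_of_le (show P ≤ zpowers a from h)
    rw [h9, Nat.card_zpowers, orderOf_eq_prime (h3 a ha) ha1] at this
    omega
  let el : Vec → G := fun v => a ^ v.1.val * b ^ v.2.val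
  have hmem : ∀ v, el v ∈ P := fun v => mul_mem (pow_mem ha _) (pow_mem hb _)
  have hadd : ∀ v w, el (v + w) = el v * el w := fun v w => by
    show a ^ (v + w).1.val * b ^ (v + w).2.val = a ^ v.1.val * b ^ v.2.val * (a ^ w.1.val * b ^ w.2.val)
    simp only [Prod.fst_add, Prod.snd_add, ZMod.val_add, ← pow_eq_pow_mod _ (h3 a ha), ← pow_eq_pow_mod _ (h3 b hb),
      pow_add]
    calc a ^ v.1.val * a ^ w.1.val * (b ^ v.2.val * b ^ w.2.val)
        = a ^ v.1.val * (a ^ w.1.val * b ^ v.2.val) * b ^ w.2.val := by group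
      _ = a ^ v.1.val * (b ^ v.2.val * a ^ w.1.val) * b ^ w.2.val := by rw [hc _ (pow_mem ha _) _ (pow_mem hb _)]
      _ = _ := by group
  have h0 : el 0 = 1 := by simp [el]
  have hker : ∀ v, el v = 1 → v = 0 := by
    intro v hv
    have hv' : a ^ v.1.val * b ^ v.2.val = 1 := hv
    have hy : v.2 = 0 := by
      by_contra hne
      have hb2 : b ^ v.2.val ∈ zpowers a := by
        rw [eq_inv_of_mul_eq_one_right hv']; exact inv_mem (pow_mem (mem_zpowers a) _)
      rcases val_cases v.2 hne with e | e <;> rw [e] at hb2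
      · rw [pow_one] at hb2; exact hbz hb2
      · have := inv_mem hb2
        rw [show (b ^ 2)⁻¹ = b from inv_eq_of_mul_eq_one_left (by rw [← pow_succ', h3 b hb])] at this
        exact hbz this
    rw [hy, ZMod.val_zero, pow_zero, mul_one] at hv'
    refine Prod.ext ?_ hy
    by_contra hne
    rcases val_cases v.1 hne with e | e <;> rw [e] at hv'
    · rw [pow_one] at hv'; exact ha1 hv'
    · have := h3 a ha; rw [pow_succ, hv', one_mul] at this; exact ha1 this
  have hinj : Function.Injective el := fun v w h => by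
    have e : el (v - w) = 1 := by
      have := hadd (v - w) w
      rw [sub_add_cancel, h] at this
      exact mul_eq_right.1 this.symm
    exact sub_eq_zero.1 (hker _ e)
  refine ⟨⟨el, hmem, hadd, hinj, fun t ht => ?_⟩⟩
  have hb' := Function.Injective.bijective_of_nat_card_le (f := fun v : Vec => (⟨el v, hmem v⟩ : P))
    (fun v w h => hinj (congrArg Subtype.val h)) (by rw [h9]; simp)
  obtain ⟨v, hv⟩ := hb'.2 ⟨t, ht⟩
  exact ⟨v, congrArg Subtype.val hv⟩

namespace Coord

variable {P : Subgroup G} (C : Coord P)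

theorem el_zero : C.el 0 = 1 := by
  have := C.add 0 0
  rw [add_zero] at this
  exact mul_eq_right.1 this.symm

theorem el_pow (v : Vec) (n : ℕ) : C.el (n • v) = C.el v ^ n := by
  induction n with
  | zero => simp [C.el_zero]
  | succ n ih => rw [succ_nsmul, C.add, ih, pow_succ]

theorem conj_mem {g : G} (hg : g ∈ normalizer (P : Set G)) (v : Vec) : ∃ w, C.el w = g * C.el v * g⁻¹ :=
  C.surj _ ((mem_normalizer_iff.1 hg _).1 (C.mem v))

/-- The matrix of the conjugation by an element of the normaliser. -/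
noncomputable def mat {g : G} (hg : g ∈ normalizer (P : Set G)) : Mt :=
  ((C.conj_mem hg (1, 0)).choose, (C.conj_mem hg (0, 1)).choose)

theorem el_mat {g : G} (hg : g ∈ normalizer (P : Set G)) (v : Vec) :
    C.el (app (C.mat hg) v) = g * C.el v * g⁻¹ := by
  have key : ∀ v w : Vec, C.el (app (C.mat hg) v) = g * C.el v * g⁻¹ → C.el (app (C.mat hg) w) = g * C.el w * g⁻¹ →
      C.el (app (C.mat hg) (v + w)) = g * C.el (v + w) * g⁻¹ := fun v w hv hw => by
    rw [app_add, C.add, hv, hw, C.add]; group
  have e1 : C.el (app (C.mat hg) (1, 0)) = g * C.el (1, 0) * g⁻¹ := by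
    rw [show app (C.mat hg) (1, 0) = (C.mat hg).1 by simp [app]]
    exact (C.conj_mem hg (1, 0)).choose_spec
  have e2 : C.el (app (C.mat hg) (0, 1)) = g * C.el (0, 1) * g⁻¹ := by
    rw [show app (C.mat hg) (0, 1) = (C.mat hg).2 by simp [app]]
    exact (C.conj_mem hg (0, 1)).choose_spec
  have hn : ∀ (v : Vec) (n : ℕ), C.el (app (C.mat hg) v) = g * C.el v * g⁻¹ →
      C.el (app (C.mat hg) (n • v)) = g * C.el (n • v) * g⁻¹ := by
    intro v n hv
    induction n with
    | zero => simp [app_zero, C.el_zero]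
    | succ n ih => rw [succ_nsmul]; exact key _ _ ih hv
  have e : v = v.1.val • ((1, 0) : Vec) + v.2.val • ((0, 1) : Vec) := by
    ext <;> simp
  rw [e]
  exact key _ _ (hn _ _ e1) (hn _ _ e2)

theorem mat_mul {g h : G} (hg : g ∈ normalizer (P : Set G)) (hh : h ∈ normalizer (P : Set G)) :
    C.mat (mul_mem hg hh) = comp (C.mat hg) (C.mat hh) :=
  app_inj_basis fun v => C.inj (by rw [app_comp, C.el_mat, C.el_mat, C.el_mat]; group)

theorem mat_one (h : (1 : G) ∈ normalizer (P : Set G)) : C.mat h = idm :=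
  app_inj_basis fun v => C.inj (by rw [app_idm, C.el_mat]; group)

theorem mat_eq_idm {g : G} (hg : g ∈ normalizer (P : Set G)) (h : C.mat hg = idm) :
    g ∈ centralizer (P : Set G) := by
  refine mem_centralizer_iff.2 fun t ht => ?_
  obtain ⟨v, rfl⟩ := C.surj t ht
  have := C.el_mat hg v
  rw [h, app_idm] at this
  exact (mul_inv_eq_iff_eq_mul.1 this.symm).symm

theorem mat_congr {g h : G} (e : g = h) (hg : g ∈ normalizer (P : Set G)) (hh : h ∈ normalizer (P : Set G)) :
    C.mat hg = C.mat hh := by subst e; rfl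

/-- The matrices of a homomorphism into the normaliser. -/
theorem mat_hom {Q : Type} [Group Q] (j : Q →* G) (hj : ∀ q, j q ∈ normalizer (P : Set G)) :
    C.mat (hj 1) = idm ∧ ∀ p q, C.mat (hj (p * q)) = comp (C.mat (hj p)) (C.mat (hj q)) :=
  ⟨(C.mat_congr (map_one j) (hj 1) (one_mem _)).trans (C.mat_one _), fun p q =>
    (C.mat_congr (map_mul j p q) (hj (p * q)) (mul_mem (hj p) (hj q))).trans (C.mat_mul (hj p) (hj q))⟩

/-- A change of basis. -/
def change (D D' : Mt) (h : comp D D' = idm) : Coord P where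
  el v := C.el (app D v)
  mem _ := C.mem _
  add v w := by rw [app_add, C.add]
  inj v w e := by
    have h' : comp D' D = idm := by
      have key : ∀ v w, app D v = app D w → v = w := by
        have hb : Function.Surjective (app D) := fun v => ⟨app D' v, by rw [← app_comp, h, app_idm]⟩
        exact fun v w => (Finite.injective_iff_surjective.2 hb).eq_iff.1
      exact app_inj_basis fun v => key _ _ (by rw [← app_comp, ← app_comp, app_comp D (comp D' D), app_comp, ← app_comp D D', h, app_idm, app_comp, app_idm])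
    have e' := congrArg (app D') (C.inj e)
    rwa [← app_comp, ← app_comp, h', app_idm, app_idm] at e'
  surj t ht := by
    obtain ⟨v, rfl⟩ := C.surj t ht
    exact ⟨app D' v, by rw [← app_comp, h, app_idm]⟩

end Coord

theorem dihedral_induction {n : ℕ} [NeZero n] {p : DihedralGroup n → Prop} (h1 : p 1)
    (hr : ∀ q, p q → p (q * .r 1)) (hs : ∀ q, p q → p (.sr 0 * q)) : ∀ q, p q := by
  have hpow : ∀ i : ℕ, p (.r (i : ZMod n)) := by
    intro i
    induction i with
    | zero => rw [Nat.cast_zero]; exact h1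
    | succ i ih => rw [Nat.cast_succ]; exact hr _ ih
  intro q
  cases q with
  | r i => simpa using hpow i.val
  | sr i =>
    have := hs _ (hpow i.val)
    simpa using this

/-- The setup of a model from coordinates and a lift of the automizer. -/
theorem exists_setup {n : ℕ} [NeZero n] (M : DihedralGroup n → Mt) [IsAct M] (hM : Function.Injective M)
    (h3 : ¬ 3 ∣ n) (P : Sylow 3 G) (h9 : Nat.card (P : Subgroup G) = 9)
    (hC : ∀ t ∈ (P : Subgroup G), t ≠ 1 → centralizer ({t} : Set G) ≤ normalizer ((P : Subgroup G) : Set G))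
    (C : Coord (P : Subgroup G)) (j : DihedralGroup n →* G)
    (hj : ∀ q, j q ∈ normalizer ((P : Subgroup G) : Set G))
    (hr : C.mat (hj (.r 1)) = M (.r 1)) (hs : C.mat (hj (.sr 0)) = M (.sr 0))
    (hcard : Nat.card (normalizer ((P : Subgroup G) : Set G)) = 9 * (2 * n)) :
    ∃ S : Setup G (Aff M), S.P = P ∧ ∀ k : Aff M, S.φ k = C.el k.v * j k.q := by
  have hact : ∀ q, C.mat (hj q) = M q := by
    obtain ⟨h1, hmul⟩ := C.mat_hom j hj
    refine dihedral_induction (p := fun q => C.mat (hj q) = M q) ?_ ?_ ?_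
    · rw [IsAct.one (M := M), h1]
    · intro q hq; rw [IsAct.mul (M := M), hmul, hq, hr]
    · intro q hq; rw [IsAct.mul (M := M), hmul, hq, hs]
  have hconj : ∀ q v, C.el (app (M q) v) = j q * C.el v * (j q)⁻¹ := fun q v => by rw [← hact q, C.el_mat]
  let φ : Aff M →* G :=
    { toFun := fun k => C.el k.v * j k.q
      map_one' := by simp [Aff.one_def, C.el_zero]
      map_mul' := fun a b => by
        simp only [Aff.mul_def, C.add, hconj, map_mul]
        group }
  have hinj : Function.Injective φ := by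
    refine (injective_iff_map_eq_one φ).2 fun k hk => ?_
    have hk' : C.el k.v * j k.q = 1 := hk
    have hjP : j k.q ∈ (P : Subgroup G) := by
      rw [eq_inv_of_mul_eq_one_right hk']; exact inv_mem (C.mem _)
    have hq : k.q = 1 := hM (by
      rw [IsAct.one (M := M)]
      refine app_inj_basis fun v => C.inj ?_
      rw [app_idm, hconj]
      have : Fact (Nat.Prime 3) := ⟨Nat.prime_three⟩
      have hcomm : IsMulCommutative (P : Subgroup G) := IsPGroup.isMulCommutative_of_card_eq_prime_sq (p := 3) (by rw [h9]; rfl)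
      have := congrArg Subtype.val (hcomm.is_comm.comm ⟨_, hjP⟩ ⟨_, C.mem v⟩)
      simp only [Subgroup.coe_mul] at this
      rw [this, mul_inv_cancel_right])
    rw [hq, map_one, mul_one] at hk'
    exact Aff.ext (C.inj (hk'.trans C.el_zero.symm)) hq
  refine ⟨{ φ := φ, inj := hinj, P := P, card9 := h9, hC := hC, range := ?_ }, rfl, fun _ => rfl⟩
  refine Subgroup.eq_of_le_of_card_ge ?_ ?_
  · rintro _ ⟨k, rfl⟩
    exact mul_mem (Subgroup.le_normalizer (C.mem _)) (hj _)
  · rw [← Nat.card_congr (MonoidHom.ofInjective hinj).toEquiv, hcard,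
      Nat.card_congr (Aff.equiv (M := M)), Nat.card_prod, DihedralGroup.nat_card]
    simp

/-- A complement of the Sylow subgroup in its normalizer, as a lift of the automizer. -/
theorem exists_lift {Q : Type} [Group Q] [Finite Q] (P : Subgroup G)
    (hn : (P.subgroupOf (normalizer (P : Set G))).Normal)
    (hco : (Nat.card P).Coprime (Nat.card Q))
    (e : normalizer (P : Set G) ⧸ P.subgroupOf (normalizer (P : Set G)) ≃* Q) :
    ∃ j : Q →* G, (∀ q, j q ∈ normalizer (P : Set G)) ∧ ∀ q, j q ∈ P → q = 1 := by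
  have hidx : (P.subgroupOf (normalizer (P : Set G))).index = Nat.card Q := by
    rw [Subgroup.index, Nat.card_congr e.toEquiv]
  obtain ⟨H, hH⟩ := Subgroup.exists_right_complement'_of_coprime
    (N := P.subgroupOf (normalizer (P : Set G))) (by
      rw [hidx, Nat.card_congr (subgroupOfEquivOfLe Subgroup.le_normalizer).toEquiv]; exact hco)
  let f : H →* Q := e.toMonoidHom.comp ((QuotientGroup.mk' _).comp H.subtype)
  have hinj : Function.Injective f := by
    refine (injective_iff_map_eq_one f).2 fun x hx => ?_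
    have h1 : ((x : normalizer (P : Set G)) : normalizer (P : Set G) ⧸ P.subgroupOf (normalizer (P : Set G))) = 1 :=
      e.map_eq_one_iff.1 hx
    have h2 := (QuotientGroup.eq_one_iff _).1 h1
    exact Subtype.ext (Subgroup.disjoint_def.1 hH.disjoint h2 x.2)
  have hcard : Nat.card Q ≤ Nat.card H := by rw [← hidx, hH.symm.index_eq_card]
  let g := MulEquiv.ofBijective f (hinj.bijective_of_nat_card_le hcard)
  refine ⟨((normalizer (P : Set G)).subtype.comp H.subtype).comp g.symm.toMonoidHom,
    fun q => ((g.symm q : H) : normalizer (P : Set G)).2, fun q hq => ?_⟩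
  have : g.symm q = 1 := Subtype.ext (Subgroup.disjoint_def.1 hH.disjoint (mem_subgroupOf.2 hq) (g.symm q).2)
  simpa using congrArg g this

set_option synthInstance.maxSize 512 in
set_option synthInstance.maxHeartbeats 400000 in
theorem norm8 : ∀ R S : Mt, comp S S = idm → comp (comp R R) (comp R R) = idm → comp R R ≠ idm → S ≠ idm →
    S ≠ comp R R → comp S R = comp (comp R (comp R R)) S → ∃ C : Mt,
      comp R C = comp C (tab8 (.r 1)) ∧ comp S C = comp C (tab8 (.sr 0)) ∧ ∃ C' : Mt, comp C C' = idm := by decide +kernel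

set_option synthInstance.maxSize 512 in
set_option synthInstance.maxHeartbeats 400000 in
theorem norm4 : ∀ R S : Mt, comp R R = idm → comp S S = idm → comp R S = comp S R → R ≠ idm → S ≠ idm → R ≠ S →
    ∃ a b : DihedralGroup 2, a ≠ 1 ∧ b ≠ 1 ∧ a ≠ b ∧ ∃ C : Mt,
      comp (tab R S a) C = comp C (tab4 (.r 1)) ∧ comp (tab R S b) C = comp C (tab4 (.sr 0)) ∧
        ∃ C' : Mt, comp C C' = idm := by decide +kernel

/-- The automorphism of the four-group given by the images of the generators. -/
def klMap (a b : DihedralGroup 2) : DihedralGroup 2 → DihedralGroup 2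
  | .r i => a ^ i.val
  | .sr i => b * a ^ i.val

theorem klMap_hom : ∀ a b p q : DihedralGroup 2, klMap a b (p * q) = klMap a b p * klMap a b q := by decide +kernel

theorem klMap_gen : ∀ a b : DihedralGroup 2, klMap a b (.r 1) = a ∧ klMap a b (.sr 0) = b := by decide +kernel

theorem klMap_inj : ∀ a b : DihedralGroup 2, a ≠ 1 → b ≠ 1 → a ≠ b → ∀ p, klMap a b p = 1 → p = 1 := by
  decide +kernel

theorem tab8_inj : Function.Injective tab8 :=
  (show ∀ a b, tab8 a = tab8 b → a = b by decide +kernel)

theorem tab4_inj : Function.Injective tab4 :=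
  (show ∀ a b, tab4 a = tab4 b → a = b by decide +kernel)

theorem card_norm_of (P : Subgroup G) {m : ℕ} (h9 : Nat.card P = 9)
    (hm : (P.subgroupOf (normalizer (P : Set G))).index = m) : Nat.card (normalizer (P : Set G)) = 9 * m := by
  have h := (P.subgroupOf (normalizer (P : Set G))).card_mul_index
  rw [hm, Nat.card_congr (subgroupOfEquivOfLe Subgroup.le_normalizer).toEquiv, h9] at h
  exact h.symm

theorem Coord.change_mat {P : Subgroup G} (C : Coord P) {D D' : Mt} (h : comp D D' = idm) {g : G}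
    (hg : g ∈ normalizer (P : Set G)) {M : Mt} (hM : comp (C.mat hg) D = comp D M) :
    (C.change D D' h).mat hg = M := by
  refine app_inj_basis fun v => (C.change D D' h).inj ?_
  rw [(C.change D D' h).el_mat]
  show g * C.el (app D v) * g⁻¹ = C.el (app D (app M v))
  rw [← C.el_mat hg, ← app_comp, ← app_comp, hM]

/-- Coordinates when the automizer is dihedral of order eight. -/
theorem setup8 (P : Sylow 3 G) (h9 : Nat.card (P : Subgroup G) = 9) (hexp : ∀ a ∈ (P : Subgroup G), a * (a * a) = 1)
    (hC : ∀ t ∈ (P : Subgroup G), t ≠ 1 → centralizer ({t} : Set G) ≤ normalizer ((P : Subgroup G) : Set G))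
    (hcent : centralizer ((P : Subgroup G) : Set G) = P) (j : DihedralGroup 4 →* G)
    (hj : ∀ q, j q ∈ normalizer ((P : Subgroup G) : Set G)) (hjP : ∀ q, j q ∈ (P : Subgroup G) → q = 1)
    (hcard : Nat.card (normalizer ((P : Subgroup G) : Set G)) = 72) : ∃ S : Setup G K8, S.P = P := by
  obtain ⟨C⟩ := exists_coord _ h9 hexp
  have hfaith : ∀ q, C.mat (hj q) = idm → q = 1 := fun q h => hjP q (hcent ▸ C.mat_eq_idm (hj q) h)
  obtain ⟨h1, hmul⟩ := C.mat_hom j hj
  have hinj : ∀ p q, C.mat (hj p) = C.mat (hj q) → p = q := fun p q h => by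
    have e : C.mat (hj (p⁻¹ * q)) = idm := by rw [hmul, ← h, ← hmul, inv_mul_cancel, h1]
    exact inv_mul_eq_one.1 (hfaith _ e)
  have hrel : ∀ p q : DihedralGroup 4, comp (C.mat (hj p)) (C.mat (hj q)) = C.mat (hj (p * q)) := fun p q => (hmul p q).symm
  obtain ⟨D, hR, hS, D', hD⟩ := norm8 (C.mat (hj (.r 1))) (C.mat (hj (.sr 0)))
    (by rw [hrel, show (DihedralGroup.sr 0 * DihedralGroup.sr 0 : DihedralGroup 4) = 1 by decide, h1])
    (by rw [hrel, hrel, show (DihedralGroup.r 1 * DihedralGroup.r 1 * (DihedralGroup.r 1 * DihedralGroup.r 1) :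
      DihedralGroup 4) = 1 by decide, h1])
    (fun h => by rw [hrel, ← h1] at h; exact absurd (hinj _ _ h) (by decide))
    (fun h => by rw [← h1] at h; exact absurd (hinj _ _ h) (by decide))
    (fun h => by rw [hrel] at h; exact absurd (hinj _ _ h) (by decide))
    (by rw [hrel, hrel, hrel, hrel, show (DihedralGroup.sr 0 * DihedralGroup.r 1 : DihedralGroup 4) =
      DihedralGroup.r 1 * (DihedralGroup.r 1 * DihedralGroup.r 1) * DihedralGroup.sr 0 by decide])
  obtain ⟨S, hS', -⟩ := exists_setup tab8 tab8_inj (by norm_num) P h9 hC (C.change D D' hD) j hj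
    (C.change_mat hD _ hR) (C.change_mat hD _ hS) hcard
  exact ⟨S, hS'⟩

/-- Coordinates when the automizer is a four-group. -/
theorem setup4 (P : Sylow 3 G) (h9 : Nat.card (P : Subgroup G) = 9) (hexp : ∀ a ∈ (P : Subgroup G), a * (a * a) = 1)
    (hC : ∀ t ∈ (P : Subgroup G), t ≠ 1 → centralizer ({t} : Set G) ≤ normalizer ((P : Subgroup G) : Set G))
    (hcent : centralizer ((P : Subgroup G) : Set G) = P) (j : DihedralGroup 2 →* G)
    (hj : ∀ q, j q ∈ normalizer ((P : Subgroup G) : Set G)) (hjP : ∀ q, j q ∈ (P : Subgroup G) → q = 1)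
    (hcard : Nat.card (normalizer ((P : Subgroup G) : Set G)) = 36) : ∃ S : Setup G K4, S.P = P := by
  obtain ⟨C⟩ := exists_coord _ h9 hexp
  have hfaith : ∀ q, C.mat (hj q) = idm → q = 1 := fun q h => hjP q (hcent ▸ C.mat_eq_idm (hj q) h)
  obtain ⟨h1, hmul⟩ := C.mat_hom j hj
  have hinj : ∀ p q, C.mat (hj p) = C.mat (hj q) → p = q := fun p q h => by
    have e : C.mat (hj (p⁻¹ * q)) = idm := by rw [hmul, ← h, ← hmul, inv_mul_cancel, h1]
    exact inv_mul_eq_one.1 (hfaith _ e)
  have hrel : ∀ p q : DihedralGroup 2, comp (C.mat (hj p)) (C.mat (hj q)) = C.mat (hj (p * q)) := fun p q => (hmul p q).symm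
  obtain ⟨a, b, ha, hb, hab, D, hR, hS, D', hD⟩ := norm4 (C.mat (hj (.r 1))) (C.mat (hj (.sr 0)))
    (by rw [hrel, show (DihedralGroup.r 1 * DihedralGroup.r 1 : DihedralGroup 2) = 1 by decide, h1])
    (by rw [hrel, show (DihedralGroup.sr 0 * DihedralGroup.sr 0 : DihedralGroup 2) = 1 by decide, h1])
    (by rw [hrel, hrel, show (DihedralGroup.r 1 * DihedralGroup.sr 0 : DihedralGroup 2) =
      DihedralGroup.sr 0 * DihedralGroup.r 1 by decide])
    (fun h => by rw [← h1] at h; exact absurd (hinj _ _ h) (by decide))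
    (fun h => by rw [← h1] at h; exact absurd (hinj _ _ h) (by decide))
    (fun h => absurd (hinj _ _ h) (by decide))
  have htab : ∀ q : DihedralGroup 2, tab (C.mat (hj (.r 1))) (C.mat (hj (.sr 0))) q = C.mat (hj q) := by
    have hp : ∀ i : ℕ, (comp (C.mat (hj (.r 1))))^[i] idm = C.mat (hj (.r (i : ZMod 2))) := by
      intro i
      induction i with
      | zero => simp only [Function.iterate_zero, id, Nat.cast_zero]; exact h1.symm
      | succ i ih =>
        rw [Function.iterate_succ_apply', ih, hrel, DihedralGroup.r_mul_r]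
        congr 2
        push_cast; ring
    intro q
    cases q with
    | r i => simp only [tab, hp, ZMod.natCast_zmod_val]
    | sr i => simp only [tab, hp, ZMod.natCast_zmod_val, hrel, DihedralGroup.sr_mul_r, zero_add]
  let ψ : DihedralGroup 2 →* DihedralGroup 2 := MonoidHom.mk' (klMap a b) (klMap_hom a b)
  rw [htab, show a = ψ (.r 1) from (klMap_gen a b).1.symm] at hR
  rw [htab, show b = ψ (.sr 0) from (klMap_gen a b).2.symm] at hS
  obtain ⟨S, hS', -⟩ := exists_setup tab4 tab4_inj (by norm_num) P h9 hC (C.change D D' hD) (j.comp ψ)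
    (fun q => hj (ψ q)) (C.change_mat hD _ hR) (C.change_mat hD _ hS) hcard
  exact ⟨S, hS'⟩

end Cfsg.Lib.Order9
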