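import Mathlib

/-!
The arithmetic of the class multiplication sums for the dihedral automizer.
-/

set_option autoImplicit false
set_option maxRecDepth 8000

namespace Cfsg.Lib.Order9

/-- The index determined by a value `n / d` of the sum is admissible for the degrees. -/
def good (n d : ℤ) (xs : List ℤ) : Bool :=
  decide (n ≠ 0) && decide (9 * d % n = 0) && decide (10 ≤ 9 * d / n) && decide (9 * d / n % 9 = 1) &&
    xs.all (fun x => decide (x * x ≤ 72 * (9 * d / n)) && decide (72 * (9 * d / n) % x = 0))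

theorem good_of {n d : ℤ} {k : ℕ} {xs : List ℤ} (hd : d ≠ 0) (h : (k : ℤ) * n = 9 * d) (hk : 10 ≤ k)
    (hk9 : k % 9 = 1) (hxs : ∀ x ∈ xs, x * x ≤ 72 * (k : ℤ) ∧ x ∣ 72 * (k : ℤ)) :
    good n d xs = true ∧ 9 * d / n = k := by
  have hn : n ≠ 0 := fun e => hd (by rw [e, mul_zero] at h; omega)
  have hq : 9 * d / n = (k : ℤ) := by rw [← h, Int.mul_ediv_cancel _ hn]
  refine ⟨?_, hq⟩
  simp only [good, hq, Bool.and_eq_true, decide_eq_true_eq, List.all_eq_true]
  refine ⟨⟨⟨⟨hn, ?_⟩, by omega⟩, by omega⟩, fun x hx => ⟨(hxs x hx).1, ?_⟩⟩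
  · rw [← h]; exact Int.mul_emod_left _ _
  · exact Int.emod_eq_zero_of_dvd (hxs x hx).2

theorem recip_le {x : ℤ} {L : ℕ} (hL : 0 < L) (hx : L ≤ x.natAbs) :
    -(1 / (L : ℚ)) ≤ 1 / (x : ℚ) ∧ 1 / (x : ℚ) ≤ 1 / (L : ℚ) := by
  have h : (L : ℚ) ≤ |(x : ℚ)| := by
    rw [← Int.cast_abs, Int.abs_eq_natAbs, Int.cast_natCast]
    exact_mod_cast hx
  rw [← abs_le, abs_div, abs_one]
  exact one_div_le_one_div_of_le (by exact_mod_cast hL) h

theorem lt_of_recip {x : ℤ} {L : ℕ} (hL : 0 < L) (h : 1 / (L : ℚ) < 1 / (x : ℚ)) : 0 < x ∧ x < L := by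
  have hpos : 0 < x := by
    by_contra hc
    have h1 : 1 / (x : ℚ) ≤ 0 := div_nonpos_of_nonneg_of_nonpos (by norm_num) (by exact_mod_cast not_lt.1 hc)
    have : (0 : ℚ) < 1 / (L : ℚ) := by positivity
    linarith
  refine ⟨hpos, ?_⟩
  have := (one_div_lt_one_div (by exact_mod_cast hL) (by exact_mod_cast hpos)).1 h
  exact_mod_cast this

theorem gt_of_recip {x : ℤ} {L : ℕ} (hL : 0 < L) (h : 1 / (x : ℚ) < -(1 / (L : ℚ))) : x < 0 ∧ -(L : ℤ) < x := by
  have := lt_of_recip (x := -x) hL (by push_cast; rw [div_neg]; linarith)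
  omega

/-- A bound on the degrees from a lower bound on the sum. -/
theorem sq_bound {S : ℚ} {k : ℕ} {x : ℤ} (hk : (k : ℚ) * S = 9) (hx : x * x ≤ 72 * (k : ℤ)) {L : ℕ}
    (hL : 0 < L) (hS : 648 / ((L : ℚ) * L) < S) : x.natAbs < L := by
  by_contra hc
  have hxq : (x : ℚ) * x ≤ 72 * k := by exact_mod_cast hx
  have h2 : (L : ℚ) * L ≤ (x : ℚ) * x := by
    have : (L : ℤ) * L ≤ x * x := by
      rw [← Int.natAbs_mul_self (a := x)]; exact_mod_cast Nat.mul_le_mul (not_lt.1 hc) (not_lt.1 hc)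
    exact_mod_cast this
  have hL2 : (0 : ℚ) < (L : ℚ) * L := by positivity
  rw [div_lt_iff₀ hL2] at hS
  have hS0 : 0 < S := pos_of_mul_pos_left (lt_trans (by norm_num) hS) hL2.le
  have hkS : (k : ℚ) * S * 72 = 648 := by rw [hk]; norm_num
  nlinarith [mul_le_mul_of_nonneg_left (le_trans h2 hxq) hS0.le]

/-- Large members force a small sum. -/
theorem sum_small {S : ℚ} {k : ℕ} {x : ℤ} (hk : (k : ℚ) * S = 9) (hx : x * x ≤ 72 * (k : ℤ)) {L : ℕ}
    (hL : 0 < L) (hc : L ≤ x.natAbs) : S ≤ 648 / ((L : ℚ) * L) :=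
  not_lt.1 fun h => absurd (sq_bound hk hx hL h) (not_lt.2 hc)

theorem two_box : ∀ i : Fin 11, ∀ j : Fin 11,
    let f : ℤ := 9 * (i : ℤ) + 1 - 45; let m : ℤ := 9 * (j : ℤ) + 2 - 45
    f ≠ 1 → good (f * m + m + 8 * f) (f * m) [f, m] = false := by decide +kernel

/-- The two-term sums. -/
theorem two_term {k : ℕ} {f m : ℤ} (hk : 10 ≤ k) (hk9 : k % 9 = 1) (hf : f % 9 = 1) (hm : m % 9 = 2)
    (hf1 : f ≠ 1) (h : (k : ℚ) * (1 + 1 / f + 8 / m) = 9) (hfk : f * f ≤ 72 * (k : ℤ) ∧ f ∣ 72 * (k : ℤ))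
    (hmk : m * m ≤ 72 * (k : ℤ) ∧ m ∣ 72 * (k : ℤ)) : False := by
  have bf := recip_le (x := f) (L := 8) (by norm_num) (by omega)
  have hk' : (10 : ℚ) ≤ k := by exact_mod_cast hk
  have hS0 : (0 : ℚ) < 1 + 1 / f + 8 / m := pos_of_mul_pos_right (by rw [h]; norm_num) (by linarith)
  have hS1 : (1 + 1 / f + 8 / m : ℚ) ≤ 9 / 10 := by nlinarith
  rw [show (8 : ℚ) / m = 8 * (1 / m) by ring] at hS0 hS1
  norm_num at bf
  have hlow : (1 / 4 : ℚ) < 1 + 1 / f + 8 / m := by
    rw [show (8 : ℚ) / m = 8 * (1 / m) by ring]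
    by_cases e : m = -7
    · subst e
      exfalso
      norm_num at hS0
      have := lt_of_recip (x := f) (L := 7) (by norm_num) (by norm_num; linarith)
      omega
    · by_cases hmn : m < 0
      · have bm := recip_le (x := m) (L := 16) (by norm_num) (by omega)
        norm_num at bm
        simp only [one_div] at bf bm ⊢
        linarith [bm.1, bf.1]
      · have : (0 : ℚ) ≤ 1 / (m : ℚ) := div_nonneg zero_le_one (by exact_mod_cast not_lt.1 hmn)
        simp only [one_div] at bf this ⊢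
        linarith [bf.1]
  have a1 := sq_bound h hfk.1 (L := 51) (by norm_num) (lt_of_le_of_lt (by norm_num) hlow)
  have a2 := sq_bound h hmk.1 (L := 51) (by norm_num) (lt_of_le_of_lt (by norm_num) hlow)
  obtain ⟨i, hi⟩ : ∃ i : ℕ, f = 9 * (i : ℤ) + 1 - 45 := ⟨((f + 44) / 9).toNat, by omega⟩
  obtain ⟨j, hj⟩ : ∃ j : ℕ, m = 9 * (j : ℤ) + 2 - 45 := ⟨((m + 43) / 9).toNat, by omega⟩
  have hf0 : (f : ℚ) ≠ 0 := Int.cast_ne_zero.2 (by omega)
  have hm0 : (m : ℚ) ≠ 0 := Int.cast_ne_zero.2 (by omega)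
  have hg := good_of (n := f * m + m + 8 * f) (d := f * m) (k := k) (xs := [f, m])
    (mul_ne_zero (by omega) (by omega)) (by
      apply Int.cast_injective (α := ℚ)
      push_cast
      field_simp at h
      linear_combination h) hk hk9 (by simpa using ⟨hfk, hmk⟩)
  by_cases hij : i < 11 ∧ j < 11
  · have := two_box ⟨i, hij.1⟩ ⟨j, hij.2⟩
    simp only [← hi, ← hj] at this
    rw [this hf1] at hg
    exact Bool.false_ne_true hg.1
  · omega

theorem three_box : ∀ i : Fin 18, ∀ j : Fin 18,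
    let A : ℤ := 9 * (i : ℤ) + 4 - 81; let W : ℤ := 9 * (j : ℤ) + 1 - 81; let R : ℤ := -2 - A - 2 * W
    W ≠ 1 → good (A * R * W + 2 * R * W + 2 * A * W + A * R) (A * R * W) [A, R, W] = false := by decide +kernel

/-- The three-term sums. -/
theorem three_term {k : ℕ} {A R W : ℤ} (hk : 10 ≤ k) (hk9 : k % 9 = 1) (hA : A % 9 = 4) (hW : W % 9 = 1)
    (hW1 : W ≠ 1) (hR : R = -2 - A - 2 * W) (hR1 : R ≠ 1)
    (h : (k : ℚ) * (1 + 2 / A + 2 / R + 1 / W) = 9) (hAk : A * A ≤ 72 * (k : ℤ) ∧ A ∣ 72 * (k : ℤ))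
    (hRk : R * R ≤ 72 * (k : ℤ) ∧ R ∣ 72 * (k : ℤ)) (hWk : W * W ≤ 72 * (k : ℤ) ∧ W ∣ 72 * (k : ℤ)) : False := by
  have bA := recip_le (x := A) (L := 4) (by norm_num) (by omega)
  have bR := recip_le (x := R) (L := 8) (by norm_num) (by omega)
  have bW := recip_le (x := W) (L := 8) (by norm_num) (by omega)
  have hlow : (1 / 8 : ℚ) ≤ 1 + 2 / A + 2 / R + 1 / W := by
    rw [show (2 : ℚ) / A = 2 * (1 / A) by ring, show (2 : ℚ) / R = 2 * (1 / R) by ring]
    norm_num at bA bR bW ⊢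
    linarith [bA.1, bR.1, bW.1]
  have a1 := sq_bound h hAk.1 (L := 73) (by norm_num) (lt_of_lt_of_le (by norm_num) hlow)
  have a2 := sq_bound h hWk.1 (L := 73) (by norm_num) (lt_of_lt_of_le (by norm_num) hlow)
  obtain ⟨i, hi⟩ : ∃ i : ℕ, A = 9 * (i : ℤ) + 4 - 81 := ⟨((A + 77) / 9).toNat, by omega⟩
  obtain ⟨j, hj⟩ : ∃ j : ℕ, W = 9 * (j : ℤ) + 1 - 81 := ⟨((W + 80) / 9).toNat, by omega⟩
  have hA0 : (A : ℚ) ≠ 0 := Int.cast_ne_zero.2 (by omega)
  have hR0 : (R : ℚ) ≠ 0 := Int.cast_ne_zero.2 (by omega)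
  have hW0 : (W : ℚ) ≠ 0 := Int.cast_ne_zero.2 (by omega)
  have hg := good_of (n := A * R * W + 2 * R * W + 2 * A * W + A * R) (d := A * R * W) (k := k) (xs := [A, R, W])
    (mul_ne_zero (mul_ne_zero (by omega) (by omega)) (by omega)) (by
      apply Int.cast_injective (α := ℚ)
      push_cast
      field_simp at h
      linear_combination h) hk hk9 (by simpa using ⟨hAk, hRk, hWk⟩)
  by_cases hij : i < 18 ∧ j < 18
  · have := three_box ⟨i, hij.1⟩ ⟨j, hij.2⟩
    simp only [← hi, ← hj, ← hR] at this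
    rw [this hW1] at hg
    exact Bool.false_ne_true hg.1
  · omega

/-- The numerator and denominator of the main sum. -/
def mainNum (P T V : ℤ) : ℤ :=
  let A := P + T + V; let U := -1 - T - V
  P * T * V * A * U + T * V * A * U + 2 * P * V * A * U + 8 * P * T * A * U + 2 * P * T * V * U - 2 * P * T * V * A

def mainDen (P T V : ℤ) : ℤ := P * T * V * (P + T + V) * (-1 - T - V)

/-- What the main case allows. -/
def mainTest (P T V : ℤ) : Bool :=
  let A := P + T + V; let U := -1 - T - V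
  let k := 9 * mainDen P T V / mainNum P T V
  decide (P = 1) || decide (T = 1) || decide (A = 0) || decide (U = 0) ||
    !(good (mainNum P T V) (mainDen P T V) [P, T, V, A, U]) ||
    decide ((A * U) * (A * U) ≤ k * (U - A) * (A * U)) || decide (k = 10) ||
    ((decide (k = 280) || decide (k = 2800)) && (decide (U = 5) || decide (A = -5)))

theorem main_box_near : ∀ j : Fin 23, ∀ t : Fin 57, ∀ i : Fin 23,
    mainTest (9 * (i : ℤ) + 1 - 99) (9 * (t : ℤ) + 1 - 252) (9 * (j : ℤ) + 2 - 99) = true := by decide +kernel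

theorem main_box_far : ∀ j : Fin 23, ∀ t : Fin 57, ∀ a : Fin 6,
    mainTest (9 * (a : ℤ) + 4 - 27 - (9 * (t : ℤ) + 1 - 252) - (9 * (j : ℤ) + 2 - 99))
      (9 * (t : ℤ) + 1 - 252) (9 * (j : ℤ) + 2 - 99) = true := by decide +kernel

/-- The sum without the last degree stays away from zero. -/
theorem main_gap : ∀ j : Fin 23, ∀ t : Fin 57,
    let T : ℤ := 9 * (t : ℤ) + 1 - 252; let V : ℤ := 9 * (j : ℤ) + 2 - 99; let U : ℤ := -1 - T - V
    T ≠ 1 → U ≠ 0 → -(T * V) * (T * V) < 100 * (T * V + 2 * V + 8 * T) * (T * V) →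
      163 * (T * V * U).natAbs ≤ 1000 * (T * V * U + 2 * V * U + 8 * T * U - 2 * T * V).natAbs := by decide +kernel

set_option maxHeartbeats 2000000 in
/-- The main case. -/
theorem main_term {k : ℕ} {P T V A U : ℤ} (hk : 10 ≤ k) (hk9 : k % 9 = 1) (hP : P % 9 = 1) (hT : T % 9 = 1)
    (hV : V % 9 = 2) (hP1 : P ≠ 1) (hT1 : T ≠ 1) (hA : A = P + T + V) (hU : U = -1 - T - V)
    (h : (k : ℚ) * (1 + 1 / P + 2 / T + 8 / V + 2 / A - 2 / U) = 9)
    (hD : 9 * (1 / (A : ℚ) - 1 / U) < 1 + 1 / P + 2 / T + 8 / V + 2 / A - 2 / U)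
    (hb : ∀ x ∈ [P, T, V, A, U], x * x ≤ 72 * (k : ℤ) ∧ x ∣ 72 * (k : ℤ)) :
    k = 10 ∨ ((k = 280 ∨ k = 2800) ∧ (U = 5 ∨ A = -5)) := by
  simp only [List.forall_mem_cons] at hb
  obtain ⟨bP, bT, bV, bA, bU, -⟩ := hb
  obtain ⟨S, hS⟩ : ∃ S : ℚ, S = 1 + 1 / P + 2 / T + 8 / V + 2 / A - 2 / U := ⟨_, rfl⟩
  rw [← hS] at h hD
  have hS' : S = 1 + 1 / (P : ℚ) + 2 * (1 / T) + 8 * (1 / V) + 2 * (1 / A) - 2 * (1 / U) := by rw [hS]; ring
  have hk' : (10 : ℚ) ≤ k := by exact_mod_cast hk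
  have hS0 : 0 < S := pos_of_mul_pos_right (by rw [h]; norm_num) (by linarith)
  have rP := recip_le (x := P) (L := 8) (by norm_num) (by omega)
  have rT := recip_le (x := T) (L := 8) (by norm_num) (by omega)
  have rA := recip_le (x := A) (L := 4) (by norm_num) (by omega)
  have rU := recip_le (x := U) (L := 4) (by norm_num) (by omega)
  -- the middle degree
  have hV100 : V.natAbs < 100 := by
    by_contra hc
    have hs := sum_small h bV.1 (L := 100) (by norm_num) (not_lt.1 hc)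
    have rV := recip_le (x := V) (L := 100) (by norm_num) (not_lt.1 hc)
    norm_num at hs rP rT rA rU rV
    simp only [one_div] at rP rT rA rU rV hD hS'
    by_cases hU5 : U = 5
    · subst hU5
      have rT' := recip_le (x := T) (L := 85) (by norm_num) (by omega)
      norm_num at rT' hS' hD
      have := gt_of_recip (x := A) (L := 7) (by norm_num) (by norm_num; linarith [rP.1, rT'.1, rV.1])
      omega
    by_cases hU4 : U = -4
    · subst hU4
      norm_num at hS' hD
      linarith [rP.1, rT.1, rV.1, rA.1]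
    have rU' := recip_le (x := U) (L := 13) (by norm_num) (by omega)
    norm_num at rU'
    simp only [one_div] at rU'
    have hA5 : A = -5 := by
      have := gt_of_recip (x := A) (L := 7) (by norm_num) (by norm_num; linarith [rP.1, rT.1, rV.1, rU'.2])
      omega
    subst hA5
    norm_num at hS' hD
    have := lt_of_recip (x := U) (L := 26) (by norm_num) (by norm_num; linarith [rP.1, rT.1, rV.1])
    have rT' := recip_le (x := T) (L := 72) (by norm_num) (by omega)
    norm_num at rT'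
    simp only [one_div] at rT'
    linarith [rP.1, rT'.1, rV.1, rU'.2]
  -- the doubled degree
  have hT250 : T.natAbs < 250 := by
    by_contra hc
    have hs := sum_small h bT.1 (L := 250) (by norm_num) (not_lt.1 hc)
    have rT' := recip_le (x := T) (L := 250) (by norm_num) (not_lt.1 hc)
    have rU' := recip_le (x := U) (L := 148) (by norm_num) (by omega)
    norm_num at hs rP rA rT' rU'
    by_cases h7 : V = -7
    · subst h7
      norm_num at hS'
      simp only [one_div] at rP rA rT' rU' hS' hD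
      have := lt_of_recip (x := P) (L := 8) (by norm_num) (by norm_num; linarith [rT'.2])
      omega
    by_cases h16 : V = -16
    · subst h16
      norm_num at hS'
      simp only [one_div] at rP rA rT' rU' hS' hD
      have hA5 : A = -5 := by
        have := gt_of_recip (x := A) (L := 6) (by norm_num) (by norm_num; linarith [rP.1, rT'.1, rU'.2])
        omega
      subst hA5
      have rP' := recip_le (x := P) (L := 230) (by norm_num) (by omega)
      norm_num at rP' hS'
      simp only [one_div] at rP' hS'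
      linarith [rP'.1, rT'.1, rU'.2]
    have rV : (-8 / 25 : ℚ) ≤ 8 * (1 / V) := by
      rcases lt_or_ge V 0 with e | e
      · have := recip_le (x := V) (L := 25) (by norm_num) (by omega)
        norm_num at this ⊢
        linarith [this.1]
      · have : (0 : ℚ) ≤ 1 / (V : ℚ) := div_nonneg zero_le_one (by exact_mod_cast e)
        linarith
    simp only [one_div] at rP rA rT' rU' rV hS' hD
    linarith [rP.1, rT'.1, rU'.2, rA.1]
  obtain ⟨j, hj⟩ : ∃ j : ℕ, V = 9 * (j : ℤ) + 2 - 99 := ⟨((V + 97) / 9).toNat, by omega⟩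
  obtain ⟨t, ht⟩ : ∃ t : ℕ, T = 9 * (t : ℤ) + 1 - 252 := ⟨((T + 251) / 9).toNat, by omega⟩
  have hj' : j < 23 := by omega
  have ht' : t < 57 := by omega
  have hP0 : (P : ℚ) ≠ 0 := Int.cast_ne_zero.2 (by omega)
  have hT0 : (T : ℚ) ≠ 0 := Int.cast_ne_zero.2 (by omega)
  have hV0 : (V : ℚ) ≠ 0 := Int.cast_ne_zero.2 (by omega)
  have hA0 : (A : ℚ) ≠ 0 := Int.cast_ne_zero.2 (by omega)
  have hU0 : (U : ℚ) ≠ 0 := Int.cast_ne_zero.2 (by omega)
  have htest : mainTest P T V = true := by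
    by_cases hPs : P.natAbs < 100
    · obtain ⟨i, hi⟩ : ∃ i : ℕ, P = 9 * (i : ℤ) + 1 - 99 := ⟨((P + 98) / 9).toNat, by omega⟩
      have := main_box_near ⟨j, hj'⟩ ⟨t, ht'⟩ ⟨i, by omega⟩
      simpa only [← hi, ← hj, ← ht] using this
    · have hs := sum_small h bP.1 (L := 100) (by norm_num) (not_lt.1 hPs)
      have rP' := recip_le (x := P) (L := 100) (by norm_num) (not_lt.1 hPs)
      norm_num at hs rP'
      have hw : -(1 / 100 : ℚ) < 1 + 2 / (T : ℚ) + 8 / (V : ℚ) := by
        have e1 : (2 : ℚ) / T = 2 * (1 / T) := by ring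
        have e2 : (8 : ℚ) / V = 8 * (1 / V) := by ring
        rw [e1, e2]
        simp only [one_div] at rP' hS' hD ⊢
        norm_num at rP' ⊢
        linarith
      have hgap := main_gap ⟨j, hj'⟩ ⟨t, ht'⟩
      simp only [← hj, ← ht, ← hU] at hgap
      have hg := hgap hT1 (by omega) (by
        have hlt : (-((T : ℚ) * V) * ((T : ℚ) * V)) < 100 * ((T : ℚ) * V + 2 * V + 8 * T) * ((T : ℚ) * V) := by
          have e : 1 + 2 / (T : ℚ) + 8 / (V : ℚ) = ((T : ℚ) * V + 2 * V + 8 * T) / ((T : ℚ) * V) := by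
            field_simp
          rw [e] at hw
          have hsq : 0 < ((T : ℚ) * V) ^ 2 := by positivity
          have := mul_lt_mul_of_pos_right hw hsq
          field_simp at this
          nlinarith [this]
        exact_mod_cast hlt)
      obtain ⟨c, hc⟩ : ∃ c : ℚ, c = 1 + 2 / (T : ℚ) + 8 / (V : ℚ) - 2 / (U : ℚ) := ⟨_, rfl⟩
      have hgq : (163 / 1000 : ℚ) ≤ |c| := by
        have hn : ((163 * (T * V * U).natAbs : ℕ) : ℚ) ≤
            ((1000 * (T * V * U + 2 * V * U + 8 * T * U - 2 * T * V).natAbs : ℕ) : ℚ) := by exact_mod_cast hg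
        push_cast [Nat.cast_natAbs, Int.cast_abs] at hn
        have e : c = ((T : ℚ) * V * U + 2 * V * U + 8 * T * U - 2 * T * V) / ((T : ℚ) * V * U) := by
          rw [hc]; field_simp
        rw [e, abs_div, div_le_div_iff₀ (by norm_num) (by positivity)]
        linarith
      have hA22 : A.natAbs < 23 := by
        by_contra hA'
        have rA' := recip_le (x := A) (L := 23) (by norm_num) (not_lt.1 hA')
        norm_num at rA'
        have e : c = S - 1 / P - 2 * (1 / A) := by rw [hc, hS']; ring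
        rw [e] at hgq
        simp only [one_div] at rP' rA' hgq
        rcases abs_choice (S - (P : ℚ)⁻¹ - 2 * (A : ℚ)⁻¹) with q | q <;> rw [q] at hgq <;>
          norm_num at rP' rA' hgq <;> linarith [rP'.1, rP'.2, rA'.1, rA'.2]
      obtain ⟨a, ha⟩ : ∃ a : ℕ, A = 9 * (a : ℤ) + 4 - 27 := ⟨((A + 23) / 9).toNat, by omega⟩
      have := main_box_far ⟨j, hj'⟩ ⟨t, ht'⟩ ⟨a, by omega⟩
      simp only [← hj, ← ht, ← ha] at this
      rwa [show A - T - V = P by omega] at this
  have hnum : (k : ℤ) * mainNum P T V = 9 * mainDen P T V := by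
    apply Int.cast_injective (α := ℚ)
    rw [hS] at h
    simp only [mainNum, mainDen, ← hA, ← hU]
    push_cast
    field_simp at h
    linear_combination h
  have hden : mainDen P T V ≠ 0 := by
    simp only [mainDen, ← hA, ← hU]
    exact mul_ne_zero (mul_ne_zero (mul_ne_zero (mul_ne_zero (by omega) (by omega)) (by omega)) (by omega)) (by omega)
  have hg := good_of (k := k) (xs := [P, T, V, A, U]) hden hnum hk hk9 (by simpa using ⟨bP, bT, bV, bA, bU⟩)
  have hAU : ¬ (A * U) * (A * U) ≤ (k : ℤ) * (U - A) * (A * U) := by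
    intro hle
    have hle' : ((A : ℚ) * U) * (A * U) ≤ (k : ℚ) * (U - A) * (A * U) := by exact_mod_cast hle
    have e : 1 / (A : ℚ) - 1 / U = ((U : ℚ) - A) / (A * U) := by field_simp
    have h9 : (k : ℚ) * (1 / (A : ℚ) - 1 / U) < 1 := by nlinarith
    rw [e] at h9
    have hsq : 0 < ((A : ℚ) * U) * (A * U) := mul_self_pos.2 (mul_ne_zero hA0 hU0)
    have := mul_lt_mul_of_pos_right h9 hsq
    field_simp at this
    nlinarith
  simp only [mainTest, hg.2, ← hA, ← hU, hg.1, Bool.or_eq_true, Bool.and_eq_true, decide_eq_true_eq,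
    Bool.not_true, Bool.false_eq_true, or_false] at htest
  omega

end Cfsg.Lib.Order9
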