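import Cfsg.Agent.LocalThree.Order9.Exc
import Cfsg.Agent.LocalThree.Order9.EightArith
import Cfsg.Agent.S0496

/-!
No simple group has a self-centralizing Sylow subgroup of order nine with dihedral automizer
containing all centralizers.
-/

set_option autoImplicit false
set_option maxRecDepth 8000

namespace Cfsg.Lib.Order9

open Subgroup Cfsg.Lib.Chars Cfsg.Lib.GramSplit

universe u

def gram8 : Mat :=
  [[3, 1, 1, 1], [1, 4, 2, -1], [1, 2, 3, 0], [1, -1, 0, 3]]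

def sols8 : List (List Row) :=
  [[[0, 0, 0, 1], [0, 0, 0, 1], [0, 0, 1, 0], [0, 1, 1, 0], [1, -1, 0, 1], [1, 1, 0, 0], [1, 1, 1, 0]],
    [[0, 0, 0, 1], [0, 0, 1, 0], [0, 1, 0, -1], [0, 1, 0, 0], [0, 1, 1, 0], [1, 0, 0, 0], [1, 0, 0, 1], [1, 1, 1, 0]],
    [[0, 0, 0, 1], [0, 1, 0, -1], [0, 1, 1, 0], [0, 1, 1, 0], [1, 0, 0, 1], [1, 0, 1, 0], [1, 1, 0, 0]],
    [[0, 0, 0, 1], [0, 1, 0, 0], [0, 1, 1, -1], [0, 1, 1, 0], [1, 0, 0, 0], [1, 0, 1, 1], [1, 1, 0, 0]],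
    [[0, 0, 1, 0], [0, 1, 0, -1], [0, 1, 0, 0], [0, 1, 1, -1], [1, 0, 0, 0], [1, 0, 0, 0], [1, 1, 1, 1]],
    [[0, 0, 1, 1], [0, 1, 0, 0], [0, 1, 0, 0], [0, 1, 1, -1], [1, 0, 0, 0], [1, 0, 0, 1], [1, 1, 1, 0]]]

def cert8 : Cert :=
  (.branch [0,1,0,-1] (.branch [1,-1,-1,0] (.branch [1,1,1,0] (.last 0 []) (.branch [1,1,1,1] (.last 0 []) (.last 0
  []))) (.branch [1,-1,-1,1] (.last 3 []) (.branch [1,-1,0,0] (.branch [1,1,1,0] (.last 0 []) (.branch [1,1,1,1]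
  (.last 0 []) (.last 0 []))) (.branch [1,-1,0,1] (.last 3 []) (.branch [1,0,-1,0] (.branch [1,1,1,0] (.last 0 [])
  (.branch [1,1,1,1] (.last 0 []) (.last 0 []))) (.branch [1,0,-1,1] (.last 3 []) (.branch [1,0,0,0] (.branch
  [1,0,0,0] (.branch [1,1,1,1] (.branch [0,1,1,-1] (.branch [0,1,0,0] (.branch [0,0,1,0] .done (.last 2 [])) (.last 1
  [])) (.last 3 [])) (.last 0 [])) (.branch [1,0,0,1] (.branch [1,1,1,0] (.branch [0,0,0,1] (.branch [0,1,0,0]
  (.branch [0,1,1,0] (.branch [0,0,1,0] .done (.last 2 [])) (.last 1 [])) (.branch [0,1,1,0] (.last 1 []) (.last 1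
  []))) (.last 3 [])) (.last 0 [])) (.branch [1,0,1,0] (.branch [1,1,0,1] (.last 3 []) (.last 0 [])) (.branch
  [1,0,1,1] (.last 3 []) (.branch [1,1,0,0] (.last 0 []) (.branch [1,1,0,1] (.last 0 []) (.branch [1,1,1,0] (.last 0
  []) (.branch [1,1,1,1] (.last 0 []) (.last 0 []))))))))) (.branch [1,0,0,1] (.branch [0,0,0,1] (.branch [1,0,1,0]
  (.branch [1,1,0,0] (.branch [0,1,1,0] (.branch [0,1,1,0] .done (.last 1 [])) (.last 1 [])) (.last 0 [])) (.branch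
  [1,1,0,0] (.last 0 []) (.branch [1,1,1,0] (.last 0 []) (.last 0 [])))) (.last 3 [])) (.branch [1,0,1,0] (.branch
  [1,1,0,0] (.last 0 []) (.branch [1,1,0,1] (.last 0 []) (.branch [1,1,1,0] (.last 0 []) (.branch [1,1,1,1] (.last 0
  []) (.last 0 []))))) (.branch [1,0,1,1] (.last 3 []) (.branch [1,1,0,0] (.branch [1,1,1,0] (.last 0 []) (.branch
  [1,1,1,1] (.last 0 []) (.last 0 []))) (.branch [1,1,0,1] (.last 3 []) (.branch [1,1,1,0] (.branch [1,1,1,0] (.last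
  0 []) (.branch [1,1,1,1] (.last 0 []) (.last 0 []))) (.branch [1,1,1,1] (.last 0 []) (.last 0 [])))))))))))))))
  (.branch [0,1,0,0] (.branch [0,1,0,0] (.branch [0,1,1,-1] (.branch [1,1,1,0] (.branch [0,0,1,1] (.branch [1,0,0,1]
  (.branch [1,0,0,0] .done (.last 0 [])) (.last 3 [])) (.last 2 [])) (.last 1 [])) (.branch [0,1,1,0] (.branch
  [1,1,1,-1] (.last 2 []) (.last 1 [])) (.branch [1,1,1,-1] (.last 1 []) (.branch [1,1,1,0] (.last 1 []) (.last 1
  []))))) (.branch [0,1,0,1] (.branch [0,1,1,-1] (.last 1 []) (.last 1 [])) (.branch [0,1,1,-1] (.branch [0,1,1,0]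
  (.branch [1,1,0,0] (.branch [1,0,1,1] (.branch [1,0,0,0] (.branch [0,0,0,1] .done (.last 3 [])) (.last 0 []))
  (.last 2 [])) (.last 1 [])) (.branch [0,1,1,1] (.last 1 []) (.branch [1,1,0,0] (.last 1 []) (.branch [1,1,0,1]
  (.last 1 []) (.branch [1,1,1,0] (.last 1 []) (.branch [1,1,1,1] (.last 1 []) (.last 1 []))))))) (.branch [0,1,1,0]
  (.branch [0,1,1,0] (.branch [1,1,0,-1] (.last 2 []) (.last 1 [])) (.branch [1,1,0,-1] (.last 1 []) (.branch
  [1,1,0,0] (.last 1 []) (.branch [1,1,1,-1] (.last 1 []) (.branch [1,1,1,0] (.last 1 []) (.last 1 [])))))) (.branch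
  [0,1,1,1] (.last 1 []) (.branch [1,-1,-1,-1] (.last 0 []) (.branch [1,-1,-1,0] (.branch [1,1,1,0] (.last 0 [])
  (.last 0 [])) (.branch [1,-1,-1,1] (.branch [1,1,1,0] (.last 0 []) (.branch [1,1,1,1] (.last 0 []) (.last 0 [])))
  (.branch [1,-1,0,-1] (.last 0 []) (.branch [1,-1,0,0] (.branch [1,1,1,0] (.last 0 []) (.last 0 [])) (.branch
  [1,-1,0,1] (.branch [1,1,1,-1] (.last 0 []) (.branch [1,1,1,0] (.last 0 []) (.branch [1,1,1,1] (.last 0 []) (.last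
  0 [])))) (.branch [1,1,0,-1] (.branch [1,1,1,1] (.last 0 []) (.last 1 [])) (.branch [1,1,0,0] (.branch [1,1,1,0]
  (.last 0 []) (.last 1 [])) (.branch [1,1,0,1] (.branch [1,1,1,-1] (.last 0 []) (.last 1 [])) (.branch [1,1,1,-1]
  (.branch [1,1,1,1] (.last 0 []) (.last 1 [])) (.branch [1,1,1,0] (.branch [1,1,1,0] (.last 0 []) (.last 1 []))
  (.branch [1,1,1,1] (.last 1 []) (.last 1 [])))))))))))))))))) (.branch [0,1,0,1] (.branch [0,1,1,-1] (.last 3 [])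
  (.branch [1,-1,-1,1] (.last 3 []) (.branch [1,-1,0,1] (.last 3 []) (.last 3 [])))) (.branch [0,1,1,-1] (.branch
  [0,1,1,0] (.branch [1,0,1,1] (.branch [1,1,0,0] (.last 1 []) (.last 1 [])) (.last 2 [])) (.branch [0,1,1,1] (.last
  3 []) (.branch [1,-1,0,0] (.branch [1,1,0,0] (.last 0 []) (.branch [1,1,0,1] (.last 0 []) (.branch [1,1,1,0] (.last
  0 []) (.branch [1,1,1,1] (.last 0 []) (.last 0 []))))) (.branch [1,-1,0,1] (.last 3 []) (.branch [1,1,0,0] (.branch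
  [1,1,0,0] (.last 0 []) (.branch [1,1,0,1] (.last 0 []) (.branch [1,1,1,0] (.last 0 []) (.branch [1,1,1,1] (.last 0
  []) (.last 1 []))))) (.branch [1,1,0,1] (.last 3 []) (.branch [1,1,1,0] (.last 1 []) (.branch [1,1,1,1] (.last 1
  []) (.last 1 []))))))))) (.branch [0,1,1,0] (.branch [0,1,1,0] (.branch [1,0,1,0] (.branch [1,1,0,0] (.last 1 [])
  (.last 1 [])) (.last 2 [])) (.branch [0,1,1,1] (.last 1 []) (.branch [1,-1,0,-1] (.last 0 []) (.branch [1,-1,0,0]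
  (.branch [1,1,0,0] (.last 0 []) (.branch [1,1,1,0] (.last 0 []) (.last 0 []))) (.branch [1,-1,0,1] (.branch
  [1,1,0,-1] (.last 0 []) (.branch [1,1,0,0] (.branch [1,1,1,0] (.branch [0,0,1,0] (.branch [0,0,0,1] (.branch
  [0,0,0,1] .done (.last 3 [])) (.last 3 [])) (.last 2 [])) (.last 0 [])) (.branch [1,1,0,1] (.last 0 []) (.branch
  [1,1,1,-1] (.last 0 []) (.branch [1,1,1,0] (.last 0 []) (.branch [1,1,1,1] (.last 0 []) (.last 0 []))))))) (.branch
  [1,1,0,-1] (.branch [1,1,0,1] (.last 0 []) (.branch [1,1,1,1] (.last 0 []) (.last 1 []))) (.branch [1,1,0,0]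
  (.branch [1,1,0,0] (.last 0 []) (.branch [1,1,1,0] (.last 0 []) (.last 1 []))) (.branch [1,1,0,1] (.branch
  [1,1,1,-1] (.last 0 []) (.last 1 [])) (.branch [1,1,1,-1] (.last 1 []) (.branch [1,1,1,0] (.last 1 []) (.branch
  [1,1,1,1] (.last 1 []) (.last 1 [])))))))))))) (.branch [0,1,1,1] (.branch [1,-1,0,1] (.last 3 []) (.last 3 []))
  (.branch [1,-1,-1,-1] (.last 0 []) (.branch [1,-1,-1,0] (.branch [1,1,1,0] (.last 0 []) (.branch [1,1,1,1] (.last 0
  []) (.last 0 []))) (.branch [1,-1,-1,1] (.branch [1,1,1,0] (.last 0 []) (.branch [1,1,1,1] (.last 0 []) (.last 0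
  []))) (.branch [1,-1,0,-1] (.last 0 []) (.branch [1,-1,0,0] (.branch [1,1,0,0] (.last 0 []) (.branch [1,1,0,1]
  (.last 0 []) (.branch [1,1,1,0] (.last 0 []) (.branch [1,1,1,1] (.last 0 []) (.last 0 []))))) (.branch [1,-1,0,1]
  (.branch [1,1,0,-1] (.last 0 []) (.branch [1,1,0,0] (.branch [1,1,1,0] (.last 1 []) (.last 0 [])) (.branch
  [1,1,0,1] (.last 0 []) (.branch [1,1,1,-1] (.last 0 []) (.branch [1,1,1,0] (.last 0 []) (.branch [1,1,1,1] (.last 0
  []) (.last 0 []))))))) (.branch [1,1,0,-1] (.branch [1,1,0,1] (.last 0 []) (.branch [1,1,1,1] (.last 0 []) (.last 1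
  []))) (.branch [1,1,0,0] (.branch [1,1,0,0] (.last 0 []) (.branch [1,1,0,1] (.last 0 []) (.branch [1,1,1,0] (.last
  0 []) (.branch [1,1,1,1] (.last 0 []) (.last 1 []))))) (.branch [1,1,0,1] (.branch [1,1,1,-1] (.last 0 []) (.last 3
  [])) (.branch [1,1,1,-1] (.branch [1,1,1,1] (.last 0 []) (.last 1 [])) (.branch [1,1,1,0] (.branch [1,1,1,0] (.last
  0 []) (.branch [1,1,1,1] (.last 0 []) (.last 1 []))) (.branch [1,1,1,1] (.last 1 []) (.last 1 [])))))))))))))))))))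

theorem check8 : check 4 sols8 [] cert8 gram8 [] [] = true := by decide +kernel

def table8 : Table K8 4 2 where
  vf := vf8
  gram := gram8
  prin := ![1, 0, 1, 1]
  rep := ![⟨(1, 0), 1⟩, ⟨(1, 1), 1⟩]
  cl k := if k.v.1 = 0 ∨ k.v.2 = 0 then 0 else 1
  coef := ![![1, -1, 2, -2], ![1, 2, -1, 1]]
  cs := ![18, 18]

theorem model8 : IsModel K8 :=
  ⟨by decide +kernel, by decide +kernel, by decide +kernel, by decide +kernel⟩

theorem isTable8 : IsTable table8 :=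
  ⟨gen_vf8, by decide +kernel, by decide +kernel, by decide +kernel, by decide +kernel, by decide +kernel,
    by decide +kernel, by decide +kernel⟩

theorem wgt8 : chD 1 = 4 ∧ table8.wgt chD 0 = 4 ∧ table8.wgt chD 1 = -8 := by decide +kernel

variable {G : Type u} [Group G] [Finite G]

/-- A faithful character of degree five fixed by all automorphisms has no element of order seven below it. -/
theorem no_seven [IsSimpleGroup G] (χ : Cfsg.IrrCharacter G) (hd : deg (χ : G → ℂ) = 5)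
    (hfix : ∀ (τ : ℂ ≃+* ℂ) (g : G), τ ((χ : G → ℂ) g) = (χ : G → ℂ) g) : ¬ 7 ∣ Nat.card G := by
  classical
  intro h7
  have : Fact (Nat.Prime 7) := ⟨by norm_num⟩
  obtain ⟨g, hg⟩ := exists_prime_orderOf_dvd_card' 7 h7
  have hχ := isCharacter_of_irr χ.2
  obtain ⟨ι, _, c, z, hz, hdec⟩ := IsCharacter.exists_cyclic_decomp hχ g
  rw [hg] at hz
  have hpow : ∀ j ∈ Finset.Ico 1 7, (χ : G → ℂ) (g ^ j) = (χ : G → ℂ) g := by
    intro j hj
    rw [Finset.mem_Ico] at hj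
    have hco : Nat.Coprime j 7 :=
      ((Nat.Prime.coprime_iff_not_dvd (by norm_num)).2 fun h => by have := Nat.le_of_dvd (by omega) h; omega).symm
    obtain ⟨τ, hτ⟩ := exists_galConj_auto (m := 7) hco
    rw [← IsGalConj.apply_character hτ hχ (g := g) (by rw [hg]), hfix]
  have h0 : (χ : G → ℂ) (g ^ 0) = 5 := by rw [pow_zero, irr_apply_one_eq_deg, hd]; norm_num
  have hgeom : ∀ w : ℂ, w ^ 7 = 1 → ∑ j ∈ Finset.range 7, w ^ j = if w = 1 then 7 else 0 := by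
    intro w hw
    split_ifs with e
    · subst e; simp
    · rw [geom_sum_eq e, hw, sub_self, zero_div]
  have hrange : Finset.range 7 = insert 0 (Finset.Ico 1 7) := by decide
  have hmul : ∀ w : ℂ, w ^ 7 = 1 →
      5 + (χ : G → ℂ) g * ∑ j ∈ Finset.Ico 1 7, w ^ j =
        7 * ((∑ i ∈ Finset.univ.filter (fun i => z i * w = 1), c i : ℕ) : ℂ) := by
    intro w hw
    have e : ∑ j ∈ Finset.range 7, (χ : G → ℂ) (g ^ j) * w ^ j =
        7 * ((∑ i ∈ Finset.univ.filter (fun i => z i * w = 1), c i : ℕ) : ℂ) := by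
      simp only [hdec, Finset.sum_mul]
      rw [Finset.sum_comm, Nat.cast_sum, Finset.mul_sum, Finset.sum_filter]
      refine Finset.sum_congr rfl fun i _ => ?_
      simp only [mul_assoc, ← mul_pow, ← Finset.mul_sum]
      rw [hgeom _ (by rw [mul_pow, hz, hw, one_mul])]
      split_ifs <;> ring
    rw [← e, hrange, Finset.sum_insert (by simp), h0, pow_zero, mul_one, Finset.mul_sum]
    refine congrArg _ (Finset.sum_congr rfl fun j hj => ?_)
    rw [hpow j hj]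
  have h1 := hmul 1 (one_pow 7)
  generalize (∑ i ∈ Finset.univ.filter (fun i => z i * 1 = 1), c i) = M1 at h1
  simp only [one_pow, Finset.sum_const, Nat.card_Ico, mul_one] at h1
  norm_num at h1
  have hz1 : ∀ i, z i = 1 ∨ c i = 0 := by
    intro i
    by_contra hc
    push Not at hc
    obtain ⟨hne, hci⟩ := hc
    have hz0 : z i ≠ 0 := fun e => by have := hz i; rw [e] at this; norm_num at this
    have hne' : (z i)⁻¹ ≠ 1 := fun e => hne (inv_eq_one.1 e)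
    have hi7 : ((z i)⁻¹) ^ 7 = 1 := by rw [inv_pow, hz, inv_one]
    have h2 := hmul (z i)⁻¹ hi7
    have hsum := hgeom _ hi7
    rw [if_neg hne', hrange, Finset.sum_insert (by simp), pow_zero] at hsum
    rw [show ∑ j ∈ Finset.Ico 1 7, ((z i)⁻¹) ^ j = -1 from eq_neg_of_add_eq_zero_right hsum] at h2
    have hge : c i ≤ ∑ x ∈ Finset.univ.filter (fun x => z x * (z i)⁻¹ = 1), c x :=
      Finset.single_le_sum (fun x _ => Nat.zero_le (c x)) (by simp [mul_inv_cancel₀ hz0])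
    generalize (∑ x ∈ Finset.univ.filter (fun x => z x * (z i)⁻¹ = 1), c x) = M at h2 hge
    have hM : ((6 * M + M1 : ℕ) : ℂ) = ((5 : ℕ) : ℂ) := by
      push_cast at h1 h2 ⊢
      linear_combination (-6 / 7 : ℂ) * h2 - (1 / 7 : ℂ) * h1
    have := Nat.cast_injective hM
    omega
  have hg5 : (χ : G → ℂ) g = (χ : G → ℂ) 1 := by
    have a := hdec 1; have b := hdec 0
    rw [pow_one] at a; rw [pow_zero] at b
    rw [a, b]
    refine Finset.sum_congr rfl fun i _ => ?_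
    rcases hz1 i with e | e
    · rw [e]; simp
    · rw [e]; simp
  rcases (kerSubgroup_normal hχ).eq_bot_or_eq_top with e | e
  · have : g ∈ kerSubgroup (χ : G → ℂ) hχ := hg5
    rw [e, Subgroup.mem_bot] at this
    rw [this, orderOf_one] at hg; omega
  · have := Fintype.ofFinite G
    have hall : ∀ x : G, (χ : G → ℂ) x = 5 := fun x => by
      have : x ∈ kerSubgroup (χ : G → ℂ) hχ := e ▸ Subgroup.mem_top x
      rw [(mem_kerSubgroup hχ x).1 this, irr_apply_one_eq_deg, hd]; norm_num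
    have h := classInner_self_irr χ.2
    rw [classInner_def] at h
    simp only [hall, Finset.sum_const, Finset.card_univ, nsmul_eq_mul, map_ofNat] at h
    rw [Nat.card_eq_fintype_card, inv_mul_cancel_left₀ (Nat.cast_ne_zero.2 Fintype.card_ne_zero)] at h
    norm_num at h

/-- The reduction of the main case to two degrees and one sum. -/
theorem eight_main {k : ℕ} {A C P Q R T U V : ℤ} (hk : 10 ≤ k) (hk9 : k % 9 = 1)
    (hres : P % 9 = 1 ∧ T % 9 = 1 ∧ R % 9 = 1 ∧ V % 9 = 2 ∧ A % 9 = 4) (hP1 : P ≠ 1) (hT1 : T ≠ 1)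
    (h0 : A ≠ 0 ∧ C ≠ 0 ∧ Q ≠ 0 ∧ U ≠ 0)
    (hd : 1 + T + U + V = 0 ∧ P + Q + R + V = 0 ∧ 1 + C + R + V = 0 ∧ 1 + A - P + U = 0)
    (hdiff : 1 / (A : ℚ) - 1 / C + 1 / Q + 1 / U = 0)
    (hE : (k : ℚ) * (1 + 4 / A - 4 / C + 1 / P + 2 / Q + 1 / R + 1 / T + 2 / U + 8 / V) = 9)
    (hpos : 0 < (1 : ℚ) - 8 / A + 8 / C + 1 / P - 1 / Q + 1 / R + 1 / T - 1 / U + 8 / V)
    (hb : (P * P ≤ 72 * (k : ℤ) ∧ P ∣ 72 * (k : ℤ)) ∧ (T * T ≤ 72 * (k : ℤ) ∧ T ∣ 72 * (k : ℤ)) ∧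
      (V * V ≤ 72 * (k : ℤ) ∧ V ∣ 72 * (k : ℤ)) ∧ (A * A ≤ 72 * (k : ℤ) ∧ A ∣ 72 * (k : ℤ)) ∧
      (U * U ≤ 72 * (k : ℤ) ∧ U ∣ 72 * (k : ℤ))) :
    k = 10 ∨ ((k = 280 ∨ k = 2800) ∧ (U = 5 ∨ A = -5)) := by
  obtain ⟨hA0, hC0, hQ0, hU0⟩ := h0
  have key : C * Q * U - A * Q * U + A * C * U + A * C * Q = 0 := by
    apply Int.cast_injective (α := ℚ)
    have a : (A : ℚ) ≠ 0 := Int.cast_ne_zero.2 hA0
    have b : (C : ℚ) ≠ 0 := Int.cast_ne_zero.2 hC0
    have c : (Q : ℚ) ≠ 0 := Int.cast_ne_zero.2 hQ0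
    have d : (U : ℚ) ≠ 0 := Int.cast_ne_zero.2 hU0
    have e := hdiff
    field_simp at e
    push_cast
    linear_combination e
  obtain ⟨hd0, hd1, hd2, hd3⟩ := hd
  obtain ⟨rP, rT, rR, rV, rA⟩ := hres
  have hfac : (P - 1) * (T - R) * (T + R + 2 * V + 1 + P) = 0 := by
    rw [show A = P - (-1 - T - V) - 1 by omega, show C = -1 - R - V by omega, show Q = -P - R - V by omega,
      show U = -1 - T - V by omega] at key
    linear_combination -key
  rcases mul_eq_zero.1 hfac with h' | h'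
  swap; · omega
  rcases mul_eq_zero.1 h' with h'' | h''
  · omega
  obtain rfl : T = R := by omega
  obtain rfl : C = U := by omega
  obtain rfl : Q = -A := by omega
  push_cast at hE hpos
  simp only [div_neg] at hE hpos
  refine main_term hk hk9 rP rT rV hP1 hT1 (by omega) (by omega) (by linear_combination hE) ?_ ?_
  · simp only [div_eq_mul_inv] at hpos ⊢
    linarith
  · simp only [List.forall_mem_cons]
    exact ⟨hb.1, hb.2.1, hb.2.2.1, hb.2.2.2.1, hb.2.2.2.2, fun x hx => absurd hx List.not_mem_nil⟩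

set_option maxHeartbeats 4000000 in
/-- The dihedral case. -/
theorem eight_false [IsSimpleGroup G] (hnab : ¬ IsMulCommutative G) (S : Setup G K8)
    (hlin : ∀ χ : Cfsg.IrrCharacter G, deg (χ : G → ℂ) = 1 → χ = ⟨_, isIrrCharacter_one⟩) : False := by
  classical
  have := Fintype.ofFinite G
  obtain ⟨sol, L, hsol, hL, hdeg, htri, hmem⟩ := S.decomp model8 isTable8 check8
  obtain ⟨w0, w1, w2⟩ := wgt8
  obtain ⟨k, hk⟩ : ∃ k, k = (normalizer ((S.P : Subgroup G) : Set G)).index := ⟨_, rfl⟩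
  have hG : Nat.card G = 72 * k := by rw [hk, S.card_eq model8]; rfl
  have hk9 : k % 9 = 1 := hk ▸ S.index_mod model8
  have hk10 : 10 ≤ k := by
    have : k ≠ 1 := by
      intro e
      have hnorm : ((S.P : Subgroup G)).Normal :=
        Subgroup.normalizer_eq_top_iff.1 (Subgroup.index_eq_one.1 (hk ▸ e))
      rcases hnorm.eq_bot_or_eq_top with h | h
      · have := S.card9; rw [h, Subgroup.card_bot] at this; omega
      · have := S.card9; rw [h, Subgroup.card_top] at this; omega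
    omega
  have hfact : ∀ p ∈ L, ((4 * p.2 + 4 * table8.ev 0 p.1 - 8 * table8.ev 1 p.1) % 9 = 0 ∧
      p.2 ≠ 0 ∧ p.2 ≠ 1 ∧ p.2 ≠ -1) ∧ (p.2 * p.2 ≤ 72 * (k : ℤ) ∧ p.2 ∣ 72 * (k : ℤ)) := by
    intro p hp
    obtain ⟨χ, σ, h1, hσ, hx, hc, -⟩ := hmem p hp
    have hpos := deg_irr_pos χ
    have hne : deg (χ : G → ℂ) ≠ 1 := fun e => h1 (hlin χ e)
    refine ⟨⟨?_, ?_, ?_, ?_⟩, ?_, ?_⟩
    · have := hc chD gen_chD
      simp only [Fin.sum_univ_two, w0, w1, w2] at this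
      omega
    · rcases mul_self_eq_one_iff.1 hσ with r | r <;> subst r <;> omega
    · rcases mul_self_eq_one_iff.1 hσ with r | r <;> subst r <;> omega
    · rcases mul_self_eq_one_iff.1 hσ with r | r <;> subst r <;> omega
    · have := deg_sq_le χ
      rw [hG, pow_two] at this
      have h2 : (deg (χ : G → ℂ) : ℤ) * deg (χ : G → ℂ) ≤ 72 * (k : ℤ) := by exact_mod_cast this
      rw [hx, show σ * (deg (χ : G → ℂ) : ℤ) * (σ * deg (χ : G → ℂ)) = σ * σ * (deg (χ : G → ℂ) * deg (χ : G → ℂ)) by ring,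
        hσ, one_mul]
      exact h2
    · have h := IsIrrCharacter.deg_dvd χ.2
      rw [hG] at h
      have h2 : (deg (χ : G → ℂ) : ℤ) ∣ 72 * (k : ℤ) := by exact_mod_cast h
      rw [hx]
      rcases mul_self_eq_one_iff.1 hσ with r | r <;> subst r <;> simpa using h2
  have hcs : ∀ a : Fin 2, (Finset.univ.filter fun k : K8 => k * table8.rep a = table8.rep a * k).card = 18 := by
    decide +kernel
  have hcnt : ∀ a b : Fin 2, a ≠ b → (Finset.univ.filter fun k : K8 =>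
      Cube k ∧ ConjK k (table8.rep a) ∧ ConjK (k⁻¹ * table8.rep b) (table8.rep a)).card = 2 := by
    decide +kernel
  have E : ∀ a b : Fin 2, a ≠ b → (k : ℚ) * table8.tri L a a b = 9 := by
    intro a b hab
    have h := S.equation model8 (a := table8.rep a) (b := table8.rep a) (c := table8.rep b) (ca := 18) (cb := 18)
      (N := 2) (isTable8.rep_cube a) (isTable8.rep_cube a) (isTable8.rep_cube b)
      ((by decide +kernel : ∀ a b : Fin 2, a ≠ b → ¬ ConjK (table8.rep b)⁻¹ (table8.rep a)) a b hab)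
      (hcs a) (hcs a) (hcnt a b hab)
    rw [htri, hG] at h
    have : ((648 : ℚ) : ℂ) = ((72 * (k : ℚ) * table8.tri L a a b : ℚ) : ℂ) := by push_cast at h ⊢; linear_combination h
    have := Rat.cast_injective this
    linarith
  have E1 := E 0 1 (by decide)
  have E2 := E 1 0 (by decide)
  have hpos : 0 < table8.tri L 0 0 0 := by
    obtain ⟨q, hq, e⟩ := S.triSum_pos model8 (a := table8.rep 0) (b := table8.rep 0) (c := table8.rep 0)
      (k := ⟨(2, 0), 1⟩) (isTable8.rep_cube 0) (isTable8.rep_cube 0) (by decide +kernel) (by decide +kernel)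
    rw [htri] at e
    rwa [Rat.cast_injective e]
  have hkne : (k : ℚ) ≠ 0 := by
    have : (10 : ℚ) ≤ k := by exact_mod_cast hk10
    linarith
  have hdiff : table8.tri L 0 0 1 = table8.tri L 1 1 0 := mul_left_cancel₀ hkne (E1.trans E2.symm)
  simp only [sols8, List.mem_cons, List.not_mem_nil, or_false] at hsol
  have hd0 := hdeg 0; have hd1 := hdeg 1; have hd2 := hdeg 2; have hd3 := hdeg 3
  rcases hsol with rfl | rfl | rfl | rfl | rfl | rfl <;>
    simp only [List.map_eq_cons_iff, List.map_eq_nil_iff] at hL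
  · obtain ⟨⟨_, x0⟩, _, rfl, rfl, ⟨_, x1⟩, _, rfl, rfl, ⟨_, x2⟩, _, rfl, rfl, ⟨_, x3⟩, _, rfl, rfl,
      ⟨_, x4⟩, _, rfl, rfl, ⟨_, x5⟩, _, rfl, rfl, ⟨_, x6⟩, _, rfl, rfl, rfl⟩ := hL
    simp only [List.forall_mem_cons] at hfact
    obtain ⟨f0, f1, f2, ⟨f3, b3⟩, f4, f5, ⟨f6, b6⟩, -⟩ := hfact
    simp [table8, Table.ev, Fin.sum_univ_four, ent] at f3 f6
    simp [table8, Table.tri, Table.ev, Fin.sum_univ_four, ent] at E1 hdiff
    refine two_term (f := x3) (m := x6) hk10 hk9 (by omega) (by omega) f3.2.2.1 ?_ b3 b6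
    linear_combination E1 - (2 / 3 : ℚ) * (k : ℚ) * hdiff
  · obtain ⟨⟨_, A⟩, _, rfl, rfl, ⟨_, C⟩, _, rfl, rfl, ⟨_, P⟩, _, rfl, rfl, ⟨_, Q⟩, _, rfl, rfl,
      ⟨_, R⟩, _, rfl, rfl, ⟨_, T⟩, _, rfl, rfl, ⟨_, U⟩, _, rfl, rfl, ⟨_, V⟩, _, rfl, rfl, rfl⟩ := hL
    simp only [List.forall_mem_cons] at hfact hmem
    obtain ⟨⟨fA, bA⟩, ⟨fC, bC⟩, ⟨fP, bP⟩, ⟨fQ, bQ⟩, ⟨fR, bR⟩, ⟨fT, bT⟩, ⟨fU, bU⟩, ⟨fV, bV⟩, -⟩ := hfact
    simp [table8, Table.ev, Fin.sum_univ_four, ent] at fA fC fP fQ fR fT fU fV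
    simp [table8, Table.tri, Table.ev, Fin.sum_univ_four, ent] at E1 hdiff hpos
    simp [table8, ent] at hd0 hd1 hd2 hd3
    have hmain := eight_main (k := k) (A := A) (C := C) (P := P) (Q := Q) (R := R) (T := T) (U := U) (V := V) hk10 hk9
      ⟨by omega, by omega, by omega, by omega, by omega⟩ fP.2.2.1 fT.2.2.1
      ⟨fA.2.1, fC.2.1, fQ.2.1, fU.2.1⟩ ⟨by omega, by omega, by omega, by omega⟩
      (by linear_combination (1 / 6 : ℚ) * hdiff) (by linear_combination E1)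
      (by simp only [div_eq_mul_inv, neg_mul, one_mul] at hpos ⊢; linarith) ⟨bP, bT, bV, bA, bU⟩
    rcases hmain with e | ⟨e, hUA⟩
    · have h496 := Cfsg.Agent.S0496.result hnab (by omega : Nat.card G ≤ 1092)
      omega
    · obtain ⟨⟨χA, σA, -, hσA, hxA, -, hfA⟩, -, -, -, -, -, ⟨χU, σU, -, hσU, hxU, -, hfU⟩, -, -⟩ := hmem
      have h7 : 7 ∣ Nat.card G := by omega
      rcases hUA with hU | hA
      · refine no_seven χU ?_ (hfU (by decide) ⟨0, by decide⟩) h7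
        rcases mul_self_eq_one_iff.1 hσU with r | r <;> subst r <;> omega
      · refine no_seven χA ?_ (hfA (by decide) ⟨3, by decide⟩) h7
        rcases mul_self_eq_one_iff.1 hσA with r | r <;> subst r <;> omega
  · obtain ⟨⟨_, A⟩, _, rfl, rfl, ⟨_, P⟩, _, rfl, rfl, ⟨_, x2⟩, _, rfl, rfl, ⟨_, x3⟩, _, rfl, rfl,
      ⟨_, U⟩, _, rfl, rfl, ⟨_, x5⟩, _, rfl, rfl, ⟨_, x6⟩, _, rfl, rfl, rfl⟩ := hL
    simp only [List.forall_mem_cons] at hfact
    obtain ⟨⟨fA, -⟩, ⟨fP, -⟩, f2, f3, ⟨fU, -⟩, -⟩ := hfact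
    simp [table8, Table.ev, Fin.sum_univ_four, ent] at fA fP fU
    simp [table8, Table.tri, Table.ev, Fin.sum_univ_four, ent] at hdiff
    simp [table8, ent] at hd3
    have hA0 : (A : ℚ) ≠ 0 := Int.cast_ne_zero.2 fA.2.1
    have hU0 : (U : ℚ) ≠ 0 := Int.cast_ne_zero.2 fU.2.1
    have : U = -A := by
      apply Int.cast_injective (α := ℚ)
      have e : 1 / (A : ℚ) + 1 / U = 0 := by linear_combination (1 / 6 : ℚ) * hdiff
      field_simp at e
      push_cast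
      linear_combination e
    omega
  · obtain ⟨⟨_, A⟩, _, rfl, rfl, ⟨_, Q⟩, _, rfl, rfl, ⟨_, J⟩, _, rfl, rfl, ⟨_, R⟩, _, rfl, rfl,
      ⟨_, T⟩, _, rfl, rfl, ⟨_, W⟩, _, rfl, rfl, ⟨_, K⟩, _, rfl, rfl, rfl⟩ := hL
    simp only [List.forall_mem_cons] at hfact
    obtain ⟨⟨fA, bA⟩, ⟨fQ, -⟩, -, ⟨fR, bR⟩, ⟨fT, -⟩, ⟨fW, bW⟩, -⟩ := hfact
    simp [table8, Table.ev, Fin.sum_univ_four, ent] at fA fQ fR fT fW
    simp [table8, Table.tri, Table.ev, Fin.sum_univ_four, ent] at E1 hdiff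
    simp [table8, ent] at hd0 hd1 hd2 hd3
    have hA0 : (A : ℚ) ≠ 0 := Int.cast_ne_zero.2 fA.2.1
    have hQ0 : (Q : ℚ) ≠ 0 := Int.cast_ne_zero.2 fQ.2.1
    obtain rfl : Q = -A := by
      apply Int.cast_injective (α := ℚ)
      have e : 1 / (A : ℚ) + 1 / Q = 0 := by linear_combination (1 / 6 : ℚ) * hdiff
      field_simp at e
      push_cast
      linear_combination e
    obtain rfl : T = R := by omega
    refine three_term hk10 hk9 (by omega) (by omega) fW.2.2.1 (by omega) fT.2.2.1 ?_ bA bR bW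
    push_cast [div_neg] at E1
    linear_combination E1
  · obtain ⟨⟨_, C⟩, _, rfl, rfl, ⟨_, P⟩, _, rfl, rfl, ⟨_, Q⟩, _, rfl, rfl, ⟨_, x3⟩, _, rfl, rfl,
      ⟨_, x4⟩, _, rfl, rfl, ⟨_, x5⟩, _, rfl, rfl, ⟨_, x6⟩, _, rfl, rfl, rfl⟩ := hL
    simp only [List.forall_mem_cons] at hfact
    obtain ⟨⟨fC, -⟩, ⟨fP, -⟩, ⟨fQ, -⟩, -⟩ := hfact
    simp [table8, Table.ev, Fin.sum_univ_four, ent] at fC fP fQ
    simp [table8, Table.tri, Table.ev, Fin.sum_univ_four, ent] at hdiff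
    simp [table8, ent] at hd1 hd2
    have hC0 : (C : ℚ) ≠ 0 := Int.cast_ne_zero.2 fC.2.1
    have hQ0 : (Q : ℚ) ≠ 0 := Int.cast_ne_zero.2 fQ.2.1
    have : C = Q := by
      apply Int.cast_injective (α := ℚ)
      have e : -1 / (C : ℚ) + 1 / Q = 0 := by linear_combination (1 / 6 : ℚ) * hdiff
      field_simp at e
      linear_combination e
    omega
  · obtain ⟨⟨_, x0⟩, _, rfl, rfl, ⟨_, x1⟩, _, rfl, rfl, ⟨_, x2⟩, _, rfl, rfl, ⟨_, x3⟩, _, rfl, rfl,
      ⟨_, x4⟩, _, rfl, rfl, ⟨_, x5⟩, _, rfl, rfl, ⟨_, x6⟩, _, rfl, rfl, rfl⟩ := hL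
    simp only [List.forall_mem_cons] at hfact
    obtain ⟨f0, f1, f2, f3, ⟨f4, b4⟩, f5, ⟨f6, b6⟩, -⟩ := hfact
    simp [table8, Table.ev, Fin.sum_univ_four, ent] at f4 f6
    simp [table8, Table.tri, Table.ev, Fin.sum_univ_four, ent] at E1 hdiff
    refine two_term (f := x4) (m := x6) hk10 hk9 (by omega) (by omega) f4.2.2.1 ?_ b4 b6
    linear_combination E1 - (1 / 3 : ℚ) * (k : ℚ) * hdiff

end Cfsg.Lib.Order9
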