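import Cfsg.Agent.LocalThree.Order9.Setup

/-!
The exceptional characters: their rows, values, degrees and class multiplication sums.
-/

set_option autoImplicit false
set_option linter.unusedSectionVars false

namespace Cfsg.Lib.Order9

open Subgroup Cfsg.Lib.Chars Cfsg.Lib.GramSplit
open scoped ComplexConjugate Pointwise

universe u

variable {K : Type} [Group K] [Fintype K] [DecidableEq K] {q m : ℕ}

/-- The computed data of the special functions. -/
structure Table (K : Type) (q m : ℕ) where
  vf : Fin q → K → ℤ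
  gram : Mat
  prin : Fin q → ℤ
  rep : Fin m → K
  cl : K → Fin m
  coef : Fin m → Fin q → ℤ
  cs : Fin m → ℕ

structure IsTable (T : Table K q m) : Prop where
  gen : ∀ i, Cfsg.IsGeneralizedCharacter K (fun k => (T.vf i k : ℂ))
  bad : ∀ i, ∀ k : K, k * k * (k * k) = 1 → T.vf i k = 0
  gram_sum : ∀ i j, ∑ k, T.vf i k * T.vf j k = (Fintype.card K : ℤ) * (get T.gram i j + T.prin i * T.prin j)
  prin_sum : ∀ i, ∑ k, T.vf i k = (Fintype.card K : ℤ) * T.prin i
  ind : ∀ a k, ∑ i, T.coef a i * T.vf i k = if ConjK k (T.rep a) then (T.cs a : ℤ) else 0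
  cnum : ∀ a, (Finset.univ.filter fun k => ConjK k (T.rep a)).card * T.cs a = Fintype.card K
  rep_cube : ∀ a, Cube (T.rep a) ∧ T.rep a ≠ 1
  cl_spec : ∀ k, Cube k → k ≠ 1 → ConjK k (T.rep (T.cl k))

/-- The value of a row at a class. -/
def Table.ev (T : Table K q m) (a : Fin m) (r : Row) : ℤ := ∑ i, T.coef a i * ent r i

/-- The class multiplication sum of the exceptional members. -/
def Table.tri (T : Table K q m) (L : List (Row × ℤ)) (a b c : Fin m) : ℚ :=
  1 + (L.map fun p => ((T.ev a p.1 * T.ev b p.1 * T.ev c p.1 : ℤ) : ℚ) / (p.2 : ℚ)).sum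

/-- The weights of a function in the congruence. -/
def Table.wgt (T : Table K q m) (ψ : K → ℤ) (a : Fin m) : ℤ :=
  ∑ k ∈ Finset.univ.filter (fun k => (Cube k ∧ k ≠ 1) ∧ T.cl k = a), ψ k

variable {G : Type u} [Group G] [Finite G]

namespace Setup

variable (S : Setup G K) (hK : IsModel K) {T : Table K q m} (hT : IsTable T)

/-- The model as the normalizer. -/
noncomputable def iso : K ≃* normalizer ((S.P : Subgroup G) : Set G) :=
  (MonoidHom.ofInjective S.inj).trans (MulEquiv.subgroupCongr S.range)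

theorem iso_coe (k : K) : (S.iso k : G) = S.φ k := rfl

/-- A function of the model on the normalizer. -/
noncomputable def pull (f : K → ℤ) : normalizer ((S.P : Subgroup G) : Set G) → ℂ := fun x => (f (S.iso.symm x) : ℂ)

include S hK

theorem sum_iso [Fintype (normalizer ((S.P : Subgroup G) : Set G))]
    (F : normalizer ((S.P : Subgroup G) : Set G) → ℂ) : ∑ x, F x = ∑ k, F (S.iso k) :=
  (Equiv.sum_comp S.iso.toEquiv F).symm

theorem inner_pull [Fintype (normalizer ((S.P : Subgroup G) : Set G))] (f : K → ℤ)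
    (F : normalizer ((S.P : Subgroup G) : Set G) → ℂ) :
    Cfsg.classInner (S.pull f) F = (Fintype.card K : ℂ)⁻¹ * ∑ k, (f k : ℂ) * conj (F (S.iso k)) := by
  rw [classInner_def, S.card_norm hK, S.sum_iso hK]
  simp [pull]

include hT

theorem gen_pull (i : Fin q) : Cfsg.IsGeneralizedCharacter (normalizer ((S.P : Subgroup G) : Set G)) (S.pull (T.vf i)) :=
  IsGeneralizedCharacter.comp_hom (hT.gen i) S.iso.symm.toMonoidHom

theorem pull_eq_zero (i : Fin q) {x : normalizer ((S.P : Subgroup G) : Set G)} (hx : x * x * (x * x) = 1) :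
    S.pull (T.vf i) x = 0 := by
  simp [pull, hT.bad i (S.iso.symm x) (by rw [← map_mul, ← map_mul, hx, map_one])]

theorem quad_mem (x : normalizer ((S.P : Subgroup G) : Set G)) :
    ((x * x * (x * x) : normalizer ((S.P : Subgroup G) : Set G)) : G) ∈ (S.P : Subgroup G) := by
  obtain ⟨k, rfl⟩ := S.iso.surjective x
  rw [← map_mul, ← map_mul, S.iso_coe]
  exact (S.mem_iff hK _).2 (hK.four k)

/-- Induction does not change a special function on its support. -/
theorem ind_apply [Fintype G] (i : Fin q) {x : normalizer ((S.P : Subgroup G) : Set G)} (hx : x * x * (x * x) ≠ 1) :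
    Cfsg.indFun (normalizer ((S.P : Subgroup G) : Set G)) (S.pull (T.vf i)) x = S.pull (T.vf i) x := by
  classical
  let H := normalizer ((S.P : Subgroup G) : Set G)
  have hcl := isClassFunction_generalized (S.gen_pull hK hT i)
  have hsupp : ∀ g : G, Cfsg.extendByZero H (S.pull (T.vf i)) (g⁻¹ * x * g) =
      if g ∈ H then S.pull (T.vf i) x else 0 := by
    intro g
    split_ifs with hg
    · rw [extendByZero_mem _ (H.mul_mem (H.mul_mem (H.inv_mem hg) x.2) hg)]
      have := hcl x (⟨g, hg⟩ : H)⁻¹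
      rw [inv_inv] at this
      exact this
    · by_cases hm : g⁻¹ * x * g ∈ H
      · rw [extendByZero_mem _ hm]
        by_contra hne
        refine hg (inv_mem_iff.1 (S.ti hK (S.quad_mem hK hT x) (fun e => hx (Subtype.ext e)) ?_))
        have := S.quad_mem hK hT ⟨g⁻¹ * x * g, hm⟩
        convert this using 1
        show g⁻¹ * ((x : G) * x * (x * x)) * g⁻¹⁻¹ = g⁻¹ * x * g * (g⁻¹ * x * g) * (g⁻¹ * x * g * (g⁻¹ * x * g))
        group
      · exact extendByZero_not_mem _ hm
  rw [indFun_apply, Finset.sum_congr rfl fun g _ => hsupp g, Finset.sum_ite, Finset.sum_const_zero, add_zero,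
    Finset.sum_const, nsmul_eq_mul, ← Fintype.card_subtype, ← Nat.card_eq_fintype_card, ← mul_assoc,
    show Nat.card {g : G // g ∈ H} = Nat.card H from rfl,
    inv_mul_cancel₀ (Nat.cast_ne_zero.2 Nat.card_pos.ne'), one_mul]

theorem exists_mults [Fintype G] : ∃ n : Fin q → Cfsg.IrrCharacter G → ℤ,
    (∀ i (χ : Cfsg.IrrCharacter G), Cfsg.classInner (Cfsg.indFun (normalizer ((S.P : Subgroup G) : Set G)) (S.pull (T.vf i))) (χ : G → ℂ) =
      (n i χ : ℂ)) ∧
    (∀ i j, ∑ χ, n i χ * n j χ = get T.gram i j + T.prin i * T.prin j) ∧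
    (∀ i, n i ⟨_, isIrrCharacter_one⟩ = T.prin i) ∧
    ∀ i, ∑ χ, n i χ * (deg (χ : G → ℂ) : ℤ) = 0 := by
  classical
  let H := normalizer ((S.P : Subgroup G) : Set G)
  have := Fintype.ofFinite H
  have hcard : (Fintype.card K : ℂ) ≠ 0 := Nat.cast_ne_zero.2 Fintype.card_ne_zero
  have hgen : ∀ i, Cfsg.IsGeneralizedCharacter G (Cfsg.indFun H (S.pull (T.vf i))) :=
    fun i => IsGeneralizedCharacter.indFun (S.gen_pull hK hT i)
  choose n hn using fun (i : Fin q) (χ : Cfsg.IrrCharacter G) => IsGeneralizedCharacter.exists_mult (hgen i) χ.2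
  refine ⟨n, hn, fun i j => ?_, fun i => ?_, fun i => ?_⟩
  · apply Int.cast_injective (α := ℂ)
    have hj := classFunction_expand (isClassFunction_indFun H (S.pull (T.vf j)))
    have e1 : Cfsg.classInner (Cfsg.indFun H (S.pull (T.vf i))) (Cfsg.indFun H (S.pull (T.vf j))) =
        ((∑ χ, n i χ * n j χ : ℤ) : ℂ) := by
      conv_lhs => rw [hj]
      rw [classInner_sum_right]
      push_cast
      refine Finset.sum_congr rfl fun χ _ => ?_
      rw [classInner_smul_right, hn, hn, mul_comm]
      simp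
    rw [← e1, frobenius_reciprocity _ _ (isClassFunction_indFun _ _), S.inner_pull hK]
    rw [Finset.sum_congr rfl (g := fun k => ((T.vf i k * T.vf j k : ℤ) : ℂ)) fun k _ => ?_, ← Int.cast_sum,
      hT.gram_sum]
    · push_cast; rw [inv_mul_cancel_left₀ hcard]
    · by_cases hx : S.iso k * S.iso k * (S.iso k * S.iso k) = 1
      · rw [hT.bad i k (S.iso.injective (by rw [map_mul, map_mul, hx, map_one]))]; simp
      · rw [S.ind_apply hK hT j hx]
        simp [pull]
  · apply Int.cast_injective (α := ℂ)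
    rw [← hn, frobenius_reciprocity _ _ (isClassFunction_irr _), S.inner_pull hK]
    simp only [map_one, mul_one]
    rw [← Int.cast_sum, hT.prin_sum]
    push_cast; rw [inv_mul_cancel_left₀ hcard]
  · apply Int.cast_injective (α := ℂ)
    push_cast
    have := classFunction_expand_apply (isClassFunction_indFun H (S.pull (T.vf i))) 1
    rw [indFun_one, S.pull_eq_zero hK hT i (by simp), mul_zero] at this
    rw [this]
    exact Finset.sum_congr rfl fun χ _ => by rw [hn, irr_apply_one_eq_deg]

theorem conj_value (χ : Cfsg.IrrCharacter G) {a : Fin m} {k : K} (h : ConjK k (T.rep a)) :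
    (χ : G → ℂ) (S.φ k) = (χ : G → ℂ) (S.φ (T.rep a)) := by
  obtain ⟨c, rfl⟩ := h
  rw [map_mul, map_mul, map_inv]
  exact isClassFunction_irr χ _ _

theorem value [Fintype G] {n : Fin q → Cfsg.IrrCharacter G → ℤ}
    (hn : ∀ i (χ : Cfsg.IrrCharacter G), Cfsg.classInner (Cfsg.indFun (normalizer ((S.P : Subgroup G) : Set G)) (S.pull (T.vf i)))
      (χ : G → ℂ) = (n i χ : ℂ)) (χ : Cfsg.IrrCharacter G) (a : Fin m) :
    (χ : G → ℂ) (S.φ (T.rep a)) = ((∑ i, T.coef a i * n i χ : ℤ) : ℂ) := by
  classical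
  let H := normalizer ((S.P : Subgroup G) : Set G)
  have := Fintype.ofFinite H
  have hcl := isClassFunction_irr χ
  have h : ((∑ i, T.coef a i * n i χ : ℤ) : ℂ) = (Fintype.card K : ℂ)⁻¹ *
      ∑ k, ((∑ i, T.coef a i * T.vf i k : ℤ) : ℂ) * conj ((χ : G → ℂ) (S.φ k)) := by
    simp only [Int.cast_sum, Int.cast_mul, Finset.sum_mul, Finset.mul_sum]
    rw [Finset.sum_comm]
    refine Finset.sum_congr rfl fun i _ => ?_
    rw [← hn, frobenius_reciprocity _ _ hcl, S.inner_pull hK, Finset.mul_sum, Finset.mul_sum]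
    exact Finset.sum_congr rfl fun k _ => by rw [S.iso_coe]; ring
  have h2 : ∀ k, ((∑ i, T.coef a i * T.vf i k : ℤ) : ℂ) * conj ((χ : G → ℂ) (S.φ k)) =
      if ConjK k (T.rep a) then (T.cs a : ℂ) * conj ((χ : G → ℂ) (S.φ (T.rep a))) else 0 := by
    intro k
    rw [hT.ind a k]
    split_ifs with he
    · rw [S.conj_value hK hT χ he]; push_cast; rfl
    · simp
  rw [Finset.sum_congr rfl fun k _ => h2 k, Finset.sum_ite, Finset.sum_const_zero, add_zero, Finset.sum_const,
    nsmul_eq_mul, ← mul_assoc ((Finset.card _ : ℕ) : ℂ), ← Nat.cast_mul, hT.cnum,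
    inv_mul_cancel_left₀ (Nat.cast_ne_zero.2 Fintype.card_ne_zero)] at h
  rw [← Complex.conj_conj ((χ : G → ℂ) (S.φ (T.rep a))), ← h, map_intCast]

theorem congruence [Fintype G] (χ : Cfsg.IrrCharacter G) (ψ : K → ℤ)
    (hψ : Cfsg.IsGeneralizedCharacter K (fun k => (ψ k : ℂ))) {v : Fin m → ℤ}
    (hv : ∀ a, (χ : G → ℂ) (S.φ (T.rep a)) = (v a : ℂ)) :
    (9 : ℤ) ∣ ψ 1 * (deg (χ : G → ℂ) : ℤ) + ∑ a, T.wgt ψ a * v a := by
  classical
  let J := (S.P : Subgroup G)
  have := Fintype.ofFinite J
  let ι : J →* K := S.iso.symm.toMonoidHom.comp (Subgroup.inclusion Subgroup.le_normalizer)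
  have hι : ∀ j : J, S.φ (ι j) = j := fun j => by
    rw [← S.iso_coe]; show ((S.iso (S.iso.symm _)) : G) = _; rw [MulEquiv.apply_symm_apply]; rfl
  obtain ⟨z, hz⟩ := IsGeneralizedCharacter.exists_mult (IsGeneralizedCharacter.mul
    (IsGeneralizedCharacter.comp_hom hψ ι)
    (IsCharacter.isGeneralized (IsCharacter.restrict (isCharacter_of_irr χ.2) J))) (isIrrCharacter_one (G := J))
  refine ⟨z, ?_⟩
  apply Int.cast_injective (α := ℂ)
  rw [classInner_def, show Nat.card J = 9 from S.card9, Nat.cast_ofNat, inv_mul_eq_iff_eq_mul₀ (by norm_num)] at hz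
  simp only [Pi.mul_apply, map_one, mul_one] at hz
  have hone : (χ : G → ℂ) (S.φ 1) = ((deg (χ : G → ℂ) : ℤ) : ℂ) := by
    rw [map_one, irr_apply_one_eq_deg]; push_cast; rfl
  have e : ∑ j : J, (ψ (ι j) : ℂ) * (χ : G → ℂ) j =
      ∑ k ∈ Finset.univ.filter (fun k : K => Cube k), (ψ k : ℂ) * (χ : G → ℂ) (S.φ k) := by
    refine Finset.sum_bij (fun j _ => ι j) (fun j _ => Finset.mem_filter.2 ⟨Finset.mem_univ _,
      (S.mem_iff hK _).1 (by rw [hι]; exact j.2)⟩) (fun a _ b _ h => Subtype.ext (by rw [← hι a, h, hι])) ?_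
      (fun j _ => by rw [hι])
    intro k hk
    refine ⟨⟨S.φ k, (S.mem_iff hK k).2 (Finset.mem_filter.1 hk).2⟩, Finset.mem_univ _, S.inj ?_⟩
    rw [hι]
  have hsplit : (Finset.univ.filter fun k : K => Cube k) =
      insert 1 (Finset.univ.filter fun k : K => Cube k ∧ k ≠ 1) := by
    ext k
    simp only [Finset.mem_filter, Finset.mem_univ, true_and, Finset.mem_insert]
    by_cases hk : k = 1
    · subst hk; simp [Cube]
    · simp [hk]
  rw [e, hsplit, Finset.sum_insert (by simp), hone,
    ← Finset.sum_fiberwise (Finset.univ.filter fun k : K => Cube k ∧ k ≠ 1) T.cl] at hz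
  push_cast
  rw [← hz]
  congr 1
  refine Finset.sum_congr rfl fun a _ => ?_
  rw [Table.wgt, Finset.filter_filter]
  push_cast
  rw [Finset.sum_mul]
  refine Finset.sum_congr rfl fun k hk => ?_
  obtain ⟨⟨hc, h1⟩, rfl⟩ := (Finset.mem_filter.1 hk).2
  rw [S.conj_value hK hT χ (hT.cl_spec k hc h1), hv]

theorem decomp [Fintype G] {sols : List (List Row)} {cert : Cert} (hc : check q sols [] cert T.gram [] [] = true) :
    ∃ (sol : List Row) (L : List (Row × ℤ)), sol ∈ sols ∧ L.map Prod.fst = sol ∧
      (∀ i, T.prin i + (L.map fun p => ent p.1 i * p.2).sum = 0) ∧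
      (∀ a b c, S.triSum (T.rep a) (T.rep b) (T.rep c) = ((T.tri L a b c : ℚ) : ℂ)) ∧
      ∀ p ∈ L, ∃ (χ : Cfsg.IrrCharacter G) (σ : ℤ), χ ≠ ⟨_, isIrrCharacter_one⟩ ∧ σ * σ = 1 ∧
        p.2 = σ * deg (χ : G → ℂ) ∧
        (∀ ψ : K → ℤ, Cfsg.IsGeneralizedCharacter K (fun k => (ψ k : ℂ)) →
          (9 : ℤ) ∣ ψ 1 * p.2 + ∑ a, T.wgt ψ a * T.ev a p.1) ∧
        (sol.count p.1 = 1 → (∃ i : Fin q, ent p.1 i ≠ 0) →
          ∀ (τ : ℂ ≃+* ℂ) (g : G), τ ((χ : G → ℂ) g) = (χ : G → ℂ) g) := by
  classical
  obtain ⟨n, hn, hgram, hprin, hdeg⟩ := S.exists_mults hK hT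
  let o : Cfsg.IrrCharacter G := ⟨_, isIrrCharacter_one⟩
  let n' : ℕ → Cfsg.IrrCharacter G → ℤ := fun i x => if h : i < q then n ⟨i, h⟩ x else 0
  have hn' : ∀ (i : Fin q) x, n' i x = n i x := fun i x => by simp [n', i.2]
  obtain ⟨L', hnd, hLs, hrest, sol, hsol, hp⟩ := sound sols n' (by simp) cert T.gram [] [] hc (Finset.univ.erase o)
    (fun i hi j hj => by
      have e := hgram ⟨i, hi⟩ ⟨j, hj⟩
      rw [← Finset.add_sum_erase _ _ (Finset.mem_univ o)] at e
      simp only [n', hi, hj, dite_true]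
      simp only [o, hprin] at e ⊢
      linarith only [e])
    (fun x _ => List.not_mem_nil)
  obtain ⟨L, hL, hmap⟩ := exists_perm_map (fun x => nrm (col q n' x)) (by simpa using hp)
  have hsgn : ∀ x, ∃ σ : ℤ, σ * σ = 1 ∧ ∀ i : Fin q, n i x = σ * ent (nrm (col q n' x)) i := by
    intro x
    refine ⟨if nrm (col q n' x) = col q n' x then 1 else -1, by split_ifs <;> rfl, fun i => ?_⟩
    have hc' : ent (col q n' x) i = n i x := by rw [ent_col i.2, hn']
    split_ifs with he
    · rw [he, hc', one_mul]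
    · rw [(nrm_sign _).resolve_left he]
      have e : ent ((col q n' x).map Neg.neg) i = -ent (col q n' x) i := by
        simp [ent, col, List.getD_eq_getElem?_getD, i.2]
      rw [e, hc']; ring
  choose sg hsg hrow using hsgn
  have hnd' : L.Nodup := hL.nodup_iff.2 hnd
  have hmem : ∀ x, x ∈ L ↔ x ∈ L' := fun x => hL.mem_iff
  have hoL : o ∉ L := fun hm => (Finset.mem_erase.1 (hLs o ((hmem o).1 hm))).1 rfl
  have hzero : ∀ x, x ≠ o → x ∉ L → ∀ i : Fin q, n i x = 0 := fun x hx hxL i => by
    have := hrest x (Finset.mem_erase.2 ⟨hx, Finset.mem_univ _⟩) (fun hm => hxL ((hmem x).2 hm)) i i.2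
    rwa [hn'] at this
  have split : ∀ {M : Type} [AddCommMonoid M] (f : Cfsg.IrrCharacter G → M),
      (∀ x, (∀ i, n i x = 0) → f x = 0) → ∑ x, f x = f o + (L.map f).sum := by
    intro M _ f hf
    rw [← List.sum_toFinset _ hnd',
      ← Finset.sum_subset (Finset.subset_univ (insert o L.toFinset)) fun x _ hx => ?_]
    · rw [Finset.sum_insert (by simpa using hoL)]
    · simp only [Finset.mem_insert, List.mem_toFinset, not_or] at hx
      exact hf x (hzero x hx.1 hx.2)
  have hval : ∀ (x : Cfsg.IrrCharacter G) a, (x : G → ℂ) (S.φ (T.rep a)) = ((sg x * T.ev a (nrm (col q n' x)) : ℤ) : ℂ) := fun x a => by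
    rw [S.value hK hT hn, Table.ev, Finset.mul_sum]
    refine congrArg _ (Finset.sum_congr rfl fun i _ => ?_)
    rw [hrow x i]; ring
  refine ⟨sol, L.map fun x => (nrm (col q n' x), sg x * deg (x : G → ℂ)), hsol, ?_, fun i => ?_, fun a b c => ?_, ?_⟩
  · rw [List.map_map]; exact hmap
  · have h1 : (deg (o : G → ℂ) : ℤ) = 1 := by
      have := irr_apply_one_eq_deg o
      have h1 : (deg (o : G → ℂ) : ℂ) = 1 := this.symm.trans rfl
      exact_mod_cast h1
    have := hdeg i
    rw [split (fun x => n i x * (deg (x : G → ℂ) : ℤ)) (fun x hx => by simp [hx i]), hprin, h1, mul_one] at this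
    rw [← this, List.map_map]
    refine congrArg (fun t => T.prin i + List.sum t) (List.map_congr_left fun x _ => ?_)
    rw [Function.comp_apply, hrow x i]; ring
  · unfold Setup.triSum Table.tri
    rw [split]
    · push_cast
      congr 1
      · show (1 : ℂ) * 1 * conj (1 : ℂ) / 1 = 1
        simp
      · rw [List.map_map, List.map_map]
        refine congrArg List.sum (List.map_congr_left fun x _ => ?_)
        simp only [Function.comp_apply]
        rw [hval, hval, hval, map_intCast, irr_apply_one_eq_deg]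
        rcases mul_self_eq_one_iff.1 (hsg x) with r | r <;> rw [r] <;> push_cast <;> ring
    · intro x hx
      rw [S.value hK hT hn x a]
      simp [hx]
  · intro p hp'
    obtain ⟨x, hx, rfl⟩ := List.mem_map.1 hp'
    refine ⟨x, sg x, fun e => hoL (by rw [e] at hx; exact hx), hsg x, rfl, fun ψ hψ => ?_, fun hcnt hnz τ g => ?_⟩
    · obtain ⟨z, hz⟩ := S.congruence hK hT x ψ hψ (v := fun a => sg x * T.ev a (nrm (col q n' x))) (hval x)
      refine ⟨sg x * z, ?_⟩
      have e : ∑ a, T.wgt ψ a * (sg x * T.ev a (nrm (col q n' x))) =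
          sg x * ∑ a, T.wgt ψ a * T.ev a (nrm (col q n' x)) := by
        rw [Finset.mul_sum]; exact Finset.sum_congr rfl fun a _ => by ring
      rw [e] at hz
      have := hsg x
      linear_combination (sg x) * hz - (∑ a, T.wgt ψ a * T.ev a (nrm (col q n' x))) * this
    · -- the conjugate has the same multiplicities, hence the same row
      let y : Cfsg.IrrCharacter G := ⟨_, IsIrrCharacter.map_auto x.2 τ⟩
      have hny : ∀ i, n i y = n i x := fun i => by
        apply Int.cast_injective (α := ℂ)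
        have hH := Fintype.ofFinite (normalizer ((S.P : Subgroup G) : Set G))
        rw [← hn, ← hn, frobenius_reciprocity _ _ (isClassFunction_irr y),
          frobenius_reciprocity _ _ (isClassFunction_irr x), S.inner_pull hK, S.inner_pull hK]
        have hr : ∀ k, conj ((y : G → ℂ) (S.φ k)) = τ (conj ((x : G → ℂ) (S.φ k))) := fun k => by
          rw [← IsCharacter.conj_inv (isCharacter_of_irr y.2), ← IsCharacter.conj_inv (isCharacter_of_irr x.2)]
        have hw : τ (((n i x : ℤ)) : ℂ) = (n i x : ℂ) := map_intCast τ _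
        rw [← hn, frobenius_reciprocity _ _ (isClassFunction_irr x), S.inner_pull hK, map_mul, map_inv₀,
          map_natCast, map_sum] at hw
        rw [← hw]
        refine congrArg _ (Finset.sum_congr rfl fun k _ => ?_)
        rw [map_mul, map_intCast, S.iso_coe, hr]
      have hyo : y ≠ o := by
        intro e
        refine hoL ?_
        have : x = o := Subtype.ext (funext fun g => τ.injective (by
          rw [show τ ((x : G → ℂ) g) = (y : G → ℂ) g from rfl, e]; exact (map_one τ).symm))
        exact this ▸ hx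
      have hyL : y ∈ L := by
        by_contra hy
        obtain ⟨i, hi⟩ := hnz
        have := hzero y hyo hy i
        rw [hny, hrow x i] at this
        rcases mul_self_eq_one_iff.1 (hsg x) with r | r <;> simp [r] at this <;> exact hi this
      have hcol : nrm (col q n' y) = nrm (col q n' x) := by
        refine congrArg nrm (List.map_congr_left fun i hi => ?_)
        simp only [n', List.mem_range.1 hi, dite_true, hny]
      rw [← hmap, List.count_eq_countP, List.countP_map] at hcnt
      have : y = x := by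
        by_contra hne
        have h2 : [y, x].Subperm (L.filter fun z => (fun b => b == nrm (col q n' x)) (nrm (col q n' z))) := by
          refine List.subperm_of_subset (by simp [hne]) ?_
          intro z hz
          simp only [List.mem_cons, List.not_mem_nil, or_false] at hz
          rcases hz with rfl | rfl <;> simp [hyL, hx, hcol]
        have := h2.length_le
        rw [← List.countP_eq_length_filter] at this
        simp only [Function.comp_def] at hcnt
        simp at this
        omega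
      exact congrFun (congrArg Subtype.val this) g

end Setup

end Cfsg.Lib.Order9
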