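import Mathlib
import Cfsg.Agent.Chars.Construct
import Cfsg.Agent.Chars.Perm

/-!
The affine groups `3² : D₈` and `3² : 2²` by their tables.
-/

set_option autoImplicit false
set_option maxRecDepth 8000

namespace Cfsg.Lib.Order9

open Cfsg.Lib.Chars

abbrev Vec := ZMod 3 × ZMod 3

/-- A matrix, by the images of the basis. -/
abbrev Mt := Vec × Vec

def app (M : Mt) (v : Vec) : Vec := (v.1 * M.1.1 + v.2 * M.2.1, v.1 * M.1.2 + v.2 * M.2.2)

def comp (M N : Mt) : Mt := (app M N.1, app M N.2)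

def idm : Mt := ((1, 0), (0, 1))

theorem app_idm (v : Vec) : app idm v = v := by simp [app, idm]

theorem app_comp (M N : Mt) (v : Vec) : app (comp M N) v = app M (app N v) := by
  simp only [app, comp]; ext <;> simp <;> ring

theorem app_add (M : Mt) (v w : Vec) : app M (v + w) = app M v + app M w := by
  simp only [app, Prod.fst_add, Prod.snd_add]; ext <;> simp <;> ring

theorem app_zero (M : Mt) : app M 0 = 0 := by simp [app]

theorem app_inj_basis {M N : Mt} (h : ∀ v, app M v = app N v) : M = N := by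
  refine Prod.ext ?_ ?_
  · simpa [app] using h (1, 0)
  · simpa [app] using h (0, 1)

variable {n : ℕ}

/-- The matrix of `r i` and of `sr i`, from those of `r 1` and `sr 0`. -/
def tab (R S : Mt) : DihedralGroup n → Mt
  | .r i => (comp R)^[i.val] idm
  | .sr i => comp S ((comp R)^[i.val] idm)

def tab8 : DihedralGroup 4 → Mt := tab ((0, 1), (-1, 0)) ((-1, 0), (0, 1))

def tab4 : DihedralGroup 2 → Mt := tab ((-1, 0), (0, 1)) ((1, 0), (0, -1))

class IsAct {Q : Type} [Group Q] (M : Q → Mt) : Prop where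
  one : M 1 = idm
  mul : ∀ p q, M (p * q) = comp (M p) (M q)

instance act8 : IsAct tab8 := ⟨by decide +kernel, by decide +kernel⟩

instance act4 : IsAct tab4 := ⟨by decide +kernel, by decide +kernel⟩

/-- The affine group. -/
@[ext] structure Aff {Q : Type} (M : Q → Mt) where
  v : Vec
  q : Q
deriving DecidableEq

namespace Aff

variable {Q : Type} [Group Q] {M : Q → Mt}

def equiv : Aff M ≃ Vec × Q where
  toFun k := (k.v, k.q)
  invFun p := ⟨p.1, p.2⟩
  left_inv _ := rfl
  right_inv _ := rfl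

instance [Fintype Q] : Fintype (Aff M) := Fintype.ofEquiv _ equiv.symm

instance : Mul (Aff M) := ⟨fun a b => ⟨a.v + app (M a.q) b.v, a.q * b.q⟩⟩

instance : One (Aff M) := ⟨⟨0, 1⟩⟩

instance : Inv (Aff M) := ⟨fun a => ⟨-app (M a.q⁻¹) a.v, a.q⁻¹⟩⟩

theorem mul_def (a b : Aff M) : a * b = ⟨a.v + app (M a.q) b.v, a.q * b.q⟩ := rfl
theorem one_def : (1 : Aff M) = ⟨0, 1⟩ := rfl
theorem inv_def (a : Aff M) : a⁻¹ = ⟨-app (M a.q⁻¹) a.v, a.q⁻¹⟩ := rfl

instance [IsAct M] : Group (Aff M) :=
  Group.ofLeftAxioms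
    (fun a b c => by
      ext1
      · simp only [mul_def, app_add, IsAct.mul (M := M), app_comp, add_assoc]
      · simp only [mul_def, mul_assoc])
    (fun a => by
      ext1
      · simp [mul_def, one_def, IsAct.one (M := M), app_idm]
      · simp [mul_def, one_def])
    (fun a => by
      ext1
      · simp [mul_def, one_def, inv_def]
      · simp [mul_def, one_def, inv_def])

def quo [IsAct M] : Aff M →* Q where
  toFun k := k.q
  map_one' := rfl
  map_mul' _ _ := rfl

/-- A point of the plane. -/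
structure Pt (M : Q → Mt) where
  x : Vec
deriving DecidableEq

def ptEquiv : Pt M ≃ Vec := ⟨Pt.x, Pt.mk, fun _ => rfl, fun _ => rfl⟩

instance : Fintype (Pt M) := Fintype.ofEquiv _ ptEquiv.symm

instance [IsAct M] : MulAction (Aff M) (Pt M) where
  smul k p := ⟨k.v + app (M k.q) p.x⟩
  one_smul p := by
    show Pt.mk ((0 : Vec) + app (M 1) p.x) = p
    rw [IsAct.one (M := M), app_idm, zero_add]
  mul_smul a b p := by
    show Pt.mk (a.v + app (M a.q) b.v + app (M (a.q * b.q)) p.x) = Pt.mk (a.v + app (M a.q) (b.v + app (M b.q) p.x))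
    rw [IsAct.mul (M := M), app_comp, app_add, add_assoc]

end Aff

abbrev K8 := Aff tab8
abbrev K4 := Aff tab4

/-- An element of order dividing three. -/
abbrev Cube {K : Type*} [Group K] (k : K) : Prop := k * (k * k) = 1

/-- Conjugacy, decidably. -/
abbrev ConjK {K : Type*} [Group K] (k r : K) : Prop := ∃ c : K, c * r * c⁻¹ = k

/-! ### Generalized characters -/

theorem gen_permInt {K : Type} [Group K] {X : Type} [MulAction K X] [Fintype X] [DecidableEq X] (f : K → ℤ)
    (hf : ∀ k, f k = ((Finset.univ.filter fun x : X => k • x = x).card : ℤ)) :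
    Cfsg.IsGeneralizedCharacter K (fun k => (f k : ℂ)) := by
  have e : (fun k => (f k : ℂ)) = permChar K X := by
    funext k
    show _ = (Nat.card (MulAction.fixedBy X k) : ℂ)
    rw [show Nat.card (MulAction.fixedBy X k) = (Finset.univ.filter fun x : X => k • x = x).card by
      rw [← Nat.card_eq_finsetCard]; exact Nat.card_congr (Equiv.subtypeEquivRight fun i => by simp), hf]
    push_cast; rfl
  rw [e]
  exact IsCharacter.isGeneralized (isCharacter_permChar X)

theorem gen_linInt {K : Type} [Group K] (f : K → ℤ) (h1 : f 1 = 1) (hm : ∀ a b, f (a * b) = f a * f b) :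
    Cfsg.IsGeneralizedCharacter K (fun k => (f k : ℂ)) := by
  let F : K →* ℂ := { toFun := fun k => (f k : ℂ), map_one' := by simp [h1], map_mul' := fun a b => by simp [hm] }
  exact IsCharacter.isGeneralized (isCharacter_linear F.toHomUnits)

theorem gen_mulInt {K : Type} [Group K] {f g : K → ℤ} (hf : Cfsg.IsGeneralizedCharacter K (fun k => (f k : ℂ)))
    (hg : Cfsg.IsGeneralizedCharacter K (fun k => (g k : ℂ))) :
    Cfsg.IsGeneralizedCharacter K (fun k => ((f k * g k : ℤ) : ℂ)) := by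
  simpa [Pi.mul_def] using IsGeneralizedCharacter.mul hf hg

theorem gen_addInt {K : Type} [Group K] {f g : K → ℤ} (hf : Cfsg.IsGeneralizedCharacter K (fun k => (f k : ℂ)))
    (hg : Cfsg.IsGeneralizedCharacter K (fun k => (g k : ℂ))) :
    Cfsg.IsGeneralizedCharacter K (fun k => ((f k + g k : ℤ) : ℂ)) := by
  simpa [Pi.add_def] using IsGeneralizedCharacter.add hf hg

theorem gen_subInt {K : Type} [Group K] {f g : K → ℤ} (hf : Cfsg.IsGeneralizedCharacter K (fun k => (f k : ℂ)))
    (hg : Cfsg.IsGeneralizedCharacter K (fun k => (g k : ℂ))) :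
    Cfsg.IsGeneralizedCharacter K (fun k => ((f k - g k : ℤ) : ℂ)) := by
  simpa [Pi.sub_def] using IsGeneralizedCharacter.sub hf hg

/-! ### The functions of `3² : 2²` -/

def one4 : K4 → ℤ := fun _ => 1

def toInt (x : ZMod 3) : ℤ := if x = 1 then 1 else if x = 2 then -1 else 0

def sgn1 (k : K4) : ℤ := toInt (tab4 k.q).1.1
def sgn2 (k : K4) : ℤ := toInt (tab4 k.q).2.2

/-- The first coordinate line. -/
structure Ln1 where
  x : ZMod 3
deriving DecidableEq

/-- The second coordinate line. -/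
structure Ln2 where
  x : ZMod 3
deriving DecidableEq

def ln1Equiv : Ln1 ≃ ZMod 3 := ⟨Ln1.x, Ln1.mk, fun _ => rfl, fun _ => rfl⟩
def ln2Equiv : Ln2 ≃ ZMod 3 := ⟨Ln2.x, Ln2.mk, fun _ => rfl, fun _ => rfl⟩
instance : Fintype Ln1 := Fintype.ofEquiv _ ln1Equiv.symm
instance : Fintype Ln2 := Fintype.ofEquiv _ ln2Equiv.symm

instance : MulAction K4 Ln1 where
  smul k p := ⟨k.v.1 + (tab4 k.q).1.1 * p.x⟩
  one_smul := (by decide +kernel : ∀ p : Ln1, (⟨(1 : K4).v.1 + (tab4 (1 : K4).q).1.1 * p.x⟩ : Ln1) = p)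
  mul_smul := (by decide +kernel : ∀ a b : K4, ∀ p : Ln1,
    (⟨(a * b).v.1 + (tab4 (a * b).q).1.1 * p.x⟩ : Ln1) = ⟨a.v.1 + (tab4 a.q).1.1 * (b.v.1 + (tab4 b.q).1.1 * p.x)⟩)

instance : MulAction K4 Ln2 where
  smul k p := ⟨k.v.2 + (tab4 k.q).2.2 * p.x⟩
  one_smul := (by decide +kernel : ∀ p : Ln2, (⟨(1 : K4).v.2 + (tab4 (1 : K4).q).2.2 * p.x⟩ : Ln2) = p)
  mul_smul := (by decide +kernel : ∀ a b : K4, ∀ p : Ln2,
    (⟨(a * b).v.2 + (tab4 (a * b).q).2.2 * p.x⟩ : Ln2) = ⟨a.v.2 + (tab4 a.q).2.2 * (b.v.2 + (tab4 b.q).2.2 * p.x)⟩)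

def phi1 (k : K4) : ℤ := ((Finset.univ.filter fun x : Ln1 => k • x = x).card : ℤ) - 1
def phi2 (k : K4) : ℤ := ((Finset.univ.filter fun x : Ln2 => k • x = x).card : ℤ) - 1

/-- The five special functions. -/
def vf4 : Fin 5 → K4 → ℤ :=
  ![fun k => one4 k + sgn1 k - phi1 k, fun k => (one4 k + sgn1 k - phi1 k) * sgn2 k,
    fun k => one4 k + sgn2 k - phi2 k, fun k => sgn1 k * (one4 k + sgn2 k - phi2 k),
    fun k => phi1 k * phi2 k - phi2 k - phi1 k + one4 k - sgn1 k * sgn2 k]

theorem gen_vf4 (i : Fin 5) : Cfsg.IsGeneralizedCharacter K4 (fun k => (vf4 i k : ℂ)) := by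
  have h0 : Cfsg.IsGeneralizedCharacter K4 (fun k => (one4 k : ℂ)) :=
    gen_linInt one4 rfl (fun _ _ => rfl)
  have h1 := gen_linInt sgn1 (by decide +kernel) (by decide +kernel)
  have h2 := gen_linInt sgn2 (by decide +kernel) (by decide +kernel)
  have p1 : Cfsg.IsGeneralizedCharacter K4 (fun k => (phi1 k : ℂ)) :=
    gen_subInt (gen_permInt (X := Ln1) (fun k => _) fun _ => rfl) h0
  have p2 : Cfsg.IsGeneralizedCharacter K4 (fun k => (phi2 k : ℂ)) :=
    gen_subInt (gen_permInt (X := Ln2) (fun k => _) fun _ => rfl) h0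
  have f1 := gen_subInt (gen_addInt h0 h1) p1
  have f2 := gen_subInt (gen_addInt h0 h2) p2
  fin_cases i
  · exact f1
  · exact gen_mulInt f1 h2
  · exact f2
  · exact gen_mulInt h1 f2
  · exact gen_subInt (gen_addInt (gen_subInt (gen_subInt (gen_mulInt p1 p2) p2) p1) h0) (gen_mulInt h1 h2)

/-! ### The functions of `3² : D₈` -/

def one8 : K8 → ℤ := fun _ => 1

def axisSign (k : K8) : ℤ := if (tab8 k.q).1.2 = 0 then 1 else -1

def prodSign (k : K8) : ℤ :=
  toInt (tab8 k.q).1.1 * toInt (tab8 k.q).2.2 + toInt (tab8 k.q).1.2 * toInt (tab8 k.q).2.1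

/-- The four signed axes. -/
structure Ax where
  u : Bool
  neg : Bool
deriving DecidableEq

/-- The six affine lines parallel to an axis. -/
structure Line where
  u : Bool
  x : ZMod 3
deriving DecidableEq

def axEquiv : Ax ≃ Bool × Bool := ⟨fun a => (a.u, a.neg), fun p => ⟨p.1, p.2⟩, fun _ => rfl, fun _ => rfl⟩
def lineEquiv : Line ≃ Bool × ZMod 3 := ⟨fun a => (a.u, a.x), fun p => ⟨p.1, p.2⟩, fun _ => rfl, fun _ => rfl⟩
instance : Fintype Ax := Fintype.ofEquiv _ axEquiv.symm
instance : Fintype Line := Fintype.ofEquiv _ lineEquiv.symm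

def axSmul (k : K8) (a : Ax) : Ax :=
  let w := app (tab8 k.q) (cond a.u (0, if a.neg then -1 else 1) (if a.neg then -1 else 1, 0))
  ⟨decide (w.1 = 0), decide (w.1 + w.2 = -1)⟩

def lineSmul (k : K8) (l : Line) : Line :=
  let w := app (tab8 k.q) (cond l.u (0, 1) (1, 0))
  if w.1 = 0 then ⟨true, k.v.2 + w.2 * l.x⟩ else ⟨false, k.v.1 + w.1 * l.x⟩

/-- Translate a line. -/
def shiftLine (v : Vec) (l : Line) : Line := ⟨l.u, cond l.u v.2 v.1 + l.x⟩

theorem lineSmul_shift (v : Vec) : ∀ (q : DihedralGroup 4) (l : Line),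
    lineSmul ⟨v, q⟩ l = shiftLine v (lineSmul ⟨0, q⟩ l) := by
  intro q l
  simp only [lineSmul, shiftLine]
  split_ifs <;> simp

theorem shiftLine_add (v w : Vec) (l : Line) : shiftLine (v + w) l = shiftLine v (shiftLine w l) := by
  obtain ⟨u, x⟩ := l
  cases u <;> simp [shiftLine, add_assoc]

theorem lineSmul_lin : ∀ (q r : DihedralGroup 4) (l : Line),
    lineSmul ⟨0, q * r⟩ l = lineSmul ⟨0, q⟩ (lineSmul ⟨0, r⟩ l) := by decide +kernel

theorem lineSmul_trans : ∀ (q : DihedralGroup 4) (w : Vec) (l : Line),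
    lineSmul ⟨0, q⟩ (shiftLine w l) = shiftLine (app (tab8 q) w) (lineSmul ⟨0, q⟩ l) := by decide +kernel

theorem lineSmul_mul (a b : K8) (l : Line) : lineSmul (a * b) l = lineSmul a (lineSmul b l) := by
  obtain ⟨v, q⟩ := a
  obtain ⟨w, r⟩ := b
  rw [Aff.mul_def, lineSmul_shift, lineSmul_shift v q, lineSmul_shift w r, lineSmul_trans, lineSmul_lin, shiftLine_add]

instance : MulAction K8 Ax where
  smul := axSmul
  one_smul := (by decide +kernel : ∀ p : Ax, axSmul 1 p = p)
  mul_smul := fun a b p => (by decide +kernel : ∀ (q r : DihedralGroup 4) (p : Ax),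
    axSmul ⟨0, q * r⟩ p = axSmul ⟨0, q⟩ (axSmul ⟨0, r⟩ p)) a.q b.q p

instance : MulAction K8 Line where
  smul := lineSmul
  one_smul := (by decide +kernel : ∀ p : Line, lineSmul 1 p = p)
  mul_smul := fun a b p => lineSmul_mul a b p

def chC (k : K8) : ℤ := ((Finset.univ.filter fun x : Ax => k • x = x).card : ℤ) - one8 k - axisSign k
def chD (k : K8) : ℤ := ((Finset.univ.filter fun x : Line => k • x = x).card : ℤ) - one8 k - axisSign k
def chX (k : K8) : ℤ := ((Finset.univ.filter fun x : Aff.Pt tab8 => k • x = x).card : ℤ) - one8 k - chD k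

/-- The four special functions. -/
def vf8 : Fin 4 → K8 → ℤ :=
  ![fun k => one8 k + axisSign k + chC k - chD k,
    fun k => prodSign k + prodSign k * axisSign k + chC k - chD k * prodSign k,
    fun k => one8 k + prodSign k + chC k - chX k,
    fun k => one8 k - prodSign k * axisSign k + chX k * axisSign k - chD k]

theorem gen_one8 : Cfsg.IsGeneralizedCharacter K8 (fun k => (one8 k : ℂ)) := gen_linInt one8 rfl (fun _ _ => rfl)

theorem gen_chD : Cfsg.IsGeneralizedCharacter K8 (fun k => (chD k : ℂ)) :=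
  gen_subInt (gen_subInt (gen_permInt (X := Line) (fun k => _) fun _ => rfl) gen_one8)
    (gen_linInt axisSign (by decide +kernel) (by decide +kernel))

theorem gen_vf8 (i : Fin 4) : Cfsg.IsGeneralizedCharacter K8 (fun k => (vf8 i k : ℂ)) := by
  have h0 := gen_one8
  have h1 := gen_linInt axisSign (by decide +kernel) (by decide +kernel)
  have h2 := gen_linInt prodSign (by decide +kernel) (by decide +kernel)
  have c : Cfsg.IsGeneralizedCharacter K8 (fun k => (chC k : ℂ)) :=
    gen_subInt (gen_subInt (gen_permInt (X := Ax) (fun k => _) fun _ => rfl) h0) h1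
  have d := gen_chD
  have x : Cfsg.IsGeneralizedCharacter K8 (fun k => (chX k : ℂ)) :=
    gen_subInt (gen_subInt (gen_permInt (X := Aff.Pt tab8) (fun k => _) fun _ => rfl) h0) d
  fin_cases i
  · exact gen_subInt (gen_addInt (gen_addInt h0 h1) c) d
  · exact gen_subInt (gen_addInt (gen_addInt h2 (gen_mulInt h2 h1)) c) (gen_mulInt d h2)
  · exact gen_subInt (gen_addInt (gen_addInt h0 h2) c) x
  · exact gen_subInt (gen_addInt (gen_subInt h0 (gen_mulInt h2 h1)) (gen_mulInt x h1)) d

end Cfsg.Lib.Order9
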