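import Cfsg.Agent.LocalThree.Order9.Klein
import Cfsg.Agent.LocalThree.Order9.Eight
import Cfsg.Agent.LocalThree.NineSixMain
import Cfsg.Agent.LocalThree.TwoSymFourMain
import Cfsg.Agent.Frobenius.FpfGroups

/-!
A self-centralizing Sylow subgroup of order nine with dihedral automizer containing all centralizers
is normal, or the group is `S₆`.
-/

set_option autoImplicit false
set_option linter.unusedSectionVars false
set_option maxRecDepth 8000

namespace Cfsg.Lib.Order9

open Subgroup Cfsg.Lib.Chars Equiv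
open scoped Pointwise

universe u

/-! ### Facts on the model -/

theorem cent8 : ∀ k : K8, (∀ c : K8, Cube c → k * c = c * k) → Cube k := by decide +kernel

theorem irred8 : ∀ r : K8, Cube r → r ≠ 1 → ∃ c : K8, c * r * c⁻¹ ≠ r ∧ c * r * c⁻¹ ≠ r⁻¹ := by decide +kernel

theorem cube_iff8 : ∀ k : K8, Cube k ↔ k.q = 1 := by decide +kernel

def d1 : Finset (DihedralGroup 4) := {1}
def dZ : Finset (DihedralGroup 4) := {1, .r 2}
def dC : Finset (DihedralGroup 4) := {1, .r 1, .r 2, .r 3}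
def dA : Finset (DihedralGroup 4) := {1, .r 2, .sr 0, .sr 2}
def dB : Finset (DihedralGroup 4) := {1, .r 2, .sr 1, .sr 3}

theorem normal_list : ∀ D : Finset (DihedralGroup 4), (1 : DihedralGroup 4) ∈ D →
    (∀ p ∈ D, ∀ q ∈ D, p * q ∈ D) → (∀ p ∈ D, ∀ q : DihedralGroup 4, q * p * q⁻¹ ∈ D) →
    D = d1 ∨ D = dZ ∨ D = dC ∨ D = dA ∨ D = dB ∨ D = Finset.univ := by decide +kernel

theorem small_comm : ∀ a b : K8, a.q ∈ d1 → b.q ∈ d1 → a * b = b * a := by decide +kernel

theorem cyc_cent : ∀ k r : K8, k.q ∈ dC → Cube r → r ≠ 1 → k * r = r * k → k.q = 1 := by decide +kernel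

theorem cyc_classes : ∀ k : K8, k.q ∈ dC → k * ⟨(1, 0), 1⟩ * k⁻¹ ≠ (⟨(1, 1), 1⟩ : K8) := by decide +kernel

theorem dZ_sub : dZ ⊆ dC ∧ d1 ⊆ dC := by decide +kernel

theorem reps_ok : (Cube (⟨(1, 0), 1⟩ : K8) ∧ (⟨(1, 0), 1⟩ : K8) ≠ 1) ∧
    (Cube (⟨(1, 1), 1⟩ : K8) ∧ (⟨(1, 1), 1⟩ : K8) ≠ 1) := by decide +kernel

theorem card_dset : ∀ D : Finset (DihedralGroup 4), (Finset.univ.filter fun k : K8 => k.q ∈ D).card = 9 * D.card := by
  decide +kernel

theorem reflection_out : (⟨0, .sr 2⟩ : K8).q ∉ dC ∧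
    (⟨0, .sr 2⟩ : K8) * ⟨(1, 0), 1⟩ * (⟨0, .sr 2⟩ : K8)⁻¹ = ⟨(1, 0), 1⟩ := by decide +kernel

/-! ### The embeddings of the four-groups -/

def qa : DihedralGroup 2 → DihedralGroup 4
  | .r i => if i = 0 then 1 else .sr 0
  | .sr i => if i = 0 then .sr 2 else .r 2

def qb : DihedralGroup 2 → DihedralGroup 4
  | .r i => if i = 0 then 1 else .sr 3
  | .sr i => if i = 0 then .sr 1 else .r 2

def dm : Mt := ((1, 1), (1, -1))

def embA (k : K4) : K8 := ⟨k.v, qa k.q⟩

theorem qa_facts : (∀ p q, qa (p * q) = qa p * qa q) ∧ (∀ q, tab8 (qa q) = tab4 q) ∧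
    (∀ q, qa q ∈ dA) ∧ (∀ q ∈ dA, ∃ p, qa p = q) ∧ Function.Injective qa := by
  refine ⟨by decide +kernel, by decide +kernel, by decide +kernel, by decide +kernel, ?_⟩
  exact (show ∀ a b, qa a = qa b → a = b by decide +kernel)

def homA : K4 →* K8 := MonoidHom.mk' embA fun a b => by
  refine Aff.ext ?_ ?_
  · show (a * b).v = a.v + app (tab8 (qa a.q)) b.v
    rw [qa_facts.2.1]; rfl
  · show qa (a.q * b.q) = qa a.q * qa b.q
    exact qa_facts.1 _ _

theorem homA_image : (∀ x, (homA x).q ∈ dA) ∧ (∀ k : K8, k.q ∈ dA → ∃ x, homA x = k) ∧ Function.Injective homA :=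
  ⟨fun x => qa_facts.2.2.1 x.q, fun k hk => by
    obtain ⟨p, hp⟩ := qa_facts.2.2.2.1 k.q hk
    exact ⟨⟨k.v, p⟩, Aff.ext rfl hp⟩,
  fun a b h => Aff.ext (show a.v = b.v from congrArg (fun k : K8 => k.v) h)
    (qa_facts.2.2.2.2 (show qa a.q = qa b.q from congrArg (fun k : K8 => k.q) h))⟩

def embB (k : K4) : K8 := ⟨app dm k.v, qb k.q⟩

theorem qb_facts : (∀ p q, qb (p * q) = qb p * qb q) ∧ (∀ q, comp (tab8 (qb q)) dm = comp dm (tab4 q)) ∧
    (∀ q, qb q ∈ dB) ∧ (∀ q ∈ dB, ∃ p, qb p = q) ∧ Function.Injective qb ∧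
    (∀ v, ∃ w, app dm w = v) ∧ Function.Injective (app dm) := by
  refine ⟨by decide +kernel, by decide +kernel, by decide +kernel, by decide +kernel, ?_, by decide +kernel, ?_⟩
  · exact (show ∀ a b, qb a = qb b → a = b by decide +kernel)
  · exact (show ∀ a b, app dm a = app dm b → a = b by decide +kernel)

def homB : K4 →* K8 := MonoidHom.mk' embB fun a b => by
  refine Aff.ext ?_ ?_
  · show app dm (a.v + app (tab4 a.q) b.v) = app dm a.v + app (tab8 (qb a.q)) (app dm b.v)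
    rw [app_add, ← app_comp, ← app_comp, qb_facts.2.1]
  · show qb (a.q * b.q) = qb a.q * qb b.q
    exact qb_facts.1 _ _

theorem homB_image : (∀ x, (homB x).q ∈ dB) ∧ (∀ k : K8, k.q ∈ dB → ∃ x, homB x = k) ∧ Function.Injective homB :=
  ⟨fun x => qb_facts.2.2.1 x.q, fun k hk => by
    obtain ⟨p, hp⟩ := qb_facts.2.2.2.1 k.q hk
    obtain ⟨w, hw⟩ := qb_facts.2.2.2.2.2.1 k.v
    exact ⟨⟨w, p⟩, Aff.ext hw hp⟩,
  fun a b h => Aff.ext (qb_facts.2.2.2.2.2.2 (show app dm a.v = app dm b.v from congrArg (fun k : K8 => k.v) h))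
    (qb_facts.2.2.2.2.1 (show qb a.q = qb b.q from congrArg (fun k : K8 => k.q) h))⟩

variable {G : Type u} [Group G] [Finite G]

/-- A linear character of a nonabelian simple group is principal. -/
theorem principal_of_deg_one [IsSimpleGroup G] (hnab : ¬ IsMulCommutative G) (χ : Cfsg.IrrCharacter G)
    (h : deg (χ : G → ℂ) = 1) : χ = ⟨_, isIrrCharacter_one⟩ := by
  obtain ⟨f, hf⟩ := exists_hom_of_deg_one (isCharacter_of_irr χ.2) (by rw [irr_apply_one_eq_deg, h, Nat.cast_one])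
  rcases f.normal_ker.eq_bot_or_eq_top with hk | hk
  · exact absurd ⟨⟨fun a b => (MonoidHom.ker_eq_bot_iff f).1 hk (by rw [map_mul, map_mul, mul_comm])⟩⟩ hnab
  · refine Subtype.ext (hf.trans (funext fun g => ?_))
    have : g ∈ f.ker := hk ▸ Subgroup.mem_top g
    simp [(MonoidHom.mem_ker).1 this]

namespace Setup

variable (S : Setup G K8)

include S

theorem self_cent {x : G} (hx : ∀ t ∈ (S.P : Subgroup G), x * t = t * x) : x ∈ (S.P : Subgroup G) := by
  obtain ⟨t, ht, ht1⟩ : ∃ t ∈ (S.P : Subgroup G), t ≠ 1 :=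
    ⟨_, (S.mem_iff model8 _).2 (isTable8.rep_cube 0).1, S.φ_ne model8 (isTable8.rep_cube 0).2⟩
  obtain ⟨k, rfl⟩ := S.exists_pre (S.hC t ht ht1 (mem_centralizer_singleton_iff.2 (hx t ht)))
  refine (S.mem_iff model8 k).2 (cent8 k fun c hc => S.inj ?_)
  rw [map_mul, map_mul, hx _ ((S.mem_iff model8 c).2 hc)]

/-- A subgroup normalized by `P` and meeting it trivially is trivial. -/
theorem eq_bot_of_disjoint {V : Subgroup G} (hPV : (S.P : Subgroup G) ≤ normalizer (V : Set G))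
    (h : ∀ x ∈ V, x ∈ (S.P : Subgroup G) → x = 1) : V = ⊥ := by
  by_contra hV
  have : Fact (Nat.Prime 3) := ⟨Nat.prime_three⟩
  have hfpf : Cfsg.Lib.Frobenius.Fpf (S.P : Subgroup G) V := by
    intro a ha ha1
    refine (eq_bot_iff_forall _).2 fun v hv => ?_
    have hvN := S.hC a ha ha1 (Subgroup.mem_inf.1 hv).2
    refine h v hv.1 (S.self_cent fun t ht => ?_)
    have h1 : v * t * v⁻¹ * t⁻¹ ∈ (S.P : Subgroup G) :=
      mul_mem ((mem_normalizer_iff.1 hvN t).1 ht) (inv_mem ht)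
    have h2 : v * t * v⁻¹ * t⁻¹ ∈ V := by
      rw [show v * t * v⁻¹ * t⁻¹ = v * (t * v⁻¹ * t⁻¹) by group]
      exact mul_mem hv.1 ((mem_normalizer_iff.1 (hPV ht) _).1 (inv_mem hv.1))
    have := h _ h2 h1
    calc v * t = v * t * v⁻¹ * t⁻¹ * (t * v) := by group
      _ = t * v := by rw [this, one_mul]
  rcases hfpf.isCyclic_or_quaternion hPV hV S.P.2 with hc | ⟨h2, -⟩
  · obtain ⟨g, hg⟩ := hc.exists_generator
    have h9 : orderOf g = 9 := (orderOf_eq_card_of_forall_mem_zpowers hg).trans S.card9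
    have h3 : g ^ 3 = 1 := Subtype.ext (by
      rw [SubmonoidClass.coe_pow, pow_succ', pow_two]; exact S.cube_P model8 g.2)
    have := orderOf_dvd_of_pow_eq_one h3
    rw [h9] at this
    norm_num at this
  · omega

/-- The normaliser acts irreducibly. -/
theorem le_of_invariant {X : Subgroup G} (hX : ∃ t ∈ X, t ∈ (S.P : Subgroup G) ∧ t ≠ 1)
    (hinv : ∀ n ∈ normalizer ((S.P : Subgroup G) : Set G), ∀ x ∈ X, x ∈ (S.P : Subgroup G) → n * x * n⁻¹ ∈ X) :
    (S.P : Subgroup G) ≤ X := by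
  obtain ⟨t, htX, htP, ht1⟩ := hX
  obtain ⟨r, hr, rfl⟩ := S.exists_el model8 htP
  obtain ⟨c, hc1, hc2⟩ := irred8 r hr (fun e => ht1 (by rw [e, map_one]))
  have hu := hinv _ (S.mem_norm c) _ htX htP
  have huP := (mem_normalizer_iff.1 (S.mem_norm c) _).1 htP
  obtain ⟨t', rfl⟩ : ∃ t', t' = S.φ r := ⟨_, rfl⟩
  have : Fact (Nat.Prime 3) := ⟨Nat.prime_three⟩
  have ho : orderOf (S.φ r) = 3 := orderOf_eq_prime (by rw [pow_succ', pow_two]; exact S.cube_P model8 htP) ht1
  have hY : zpowers (S.φ r) < X ⊓ (S.P : Subgroup G) := by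
    refine lt_of_le_of_ne (zpowers_le.2 ⟨htX, htP⟩) fun e => ?_
    have hmem : S.φ c * S.φ r * (S.φ c)⁻¹ ∈ zpowers (S.φ r) := e ▸ ⟨hu, huP⟩
    obtain ⟨i, hi⟩ := hmem
    have hi' : S.φ r ^ i = S.φ (c * r * c⁻¹) := by rw [map_mul, map_mul, map_inv]; exact hi
    rw [← zpow_mod_orderOf, ho] at hi'
    rcases (show i % 3 = 0 ∨ i % 3 = 1 ∨ i % 3 = 2 by omega) with e | e | e <;>
      simp only [Nat.cast_ofNat, e] at hi'
    · rw [zpow_zero] at hi'
      exact ht1 (by rw [conj_eq_one_iff.1 (S.inj (hi'.symm.trans S.φ.map_one.symm)), map_one])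
    · rw [zpow_one] at hi'; exact hc1 (S.inj hi').symm
    · refine hc2 (S.inj ?_)
      rw [← hi', map_inv]
      exact (inv_eq_of_mul_eq_one_right (by
        rw [show (2 : ℤ) = ((2 : ℕ) : ℤ) from rfl, zpow_natCast, pow_two]; exact S.cube_P model8 htP)).symm
  have h3 : 3 ∣ Nat.card (X ⊓ (S.P : Subgroup G) : Subgroup G) := by
    have := Subgroup.card_dvd_of_le hY.le
    rwa [Nat.card_zpowers, ho] at this
  have h9 : Nat.card (X ⊓ (S.P : Subgroup G) : Subgroup G) ∣ 3 ^ 2 := by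
    rw [show 3 ^ 2 = 9 from rfl, ← S.card9]; exact Subgroup.card_dvd_of_le inf_le_right
  obtain ⟨i, hi, hcard⟩ := (Nat.dvd_prime_pow Nat.prime_three).1 h9
  have hlt : 3 < Nat.card (X ⊓ (S.P : Subgroup G) : Subgroup G) := by
    have h1 := Subgroup.card_le_of_le hY.le
    rw [Nat.card_zpowers, ho] at h1
    refine lt_of_le_of_ne h1 fun e => hY.ne (Subgroup.eq_of_le_of_card_ge hY.le (by rw [Nat.card_zpowers, ho, ← e]))
  interval_cases i
  · rw [hcard] at hlt; norm_num at hlt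
  · rw [hcard] at hlt; norm_num at hlt
  · exact (Subgroup.eq_of_le_of_card_ge (inf_le_right : X ⊓ (S.P : Subgroup G) ≤ _) (by rw [hcard, S.card9]; rfl)).ge.trans inf_le_left

/-- A minimal normal subgroup contains the Sylow subgroup and is simple. -/
theorem exists_simple_normal (hnn : ¬ (S.P : Subgroup G).Normal) :
    ∃ L : Subgroup G, L.Normal ∧ (S.P : Subgroup G) ≤ L ∧ IsSimpleGroup L ∧ ¬ IsMulCommutative L := by
  have hP1 : (S.P : Subgroup G) ≠ ⊥ := fun e => by
    have := S.card9; rw [e, Subgroup.card_bot] at this; omega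
  obtain ⟨L, ⟨hLn, hL1⟩, hLmin⟩ := exists_minimal_of_wellFoundedLT (fun L : Subgroup G => L.Normal ∧ L ≠ ⊥)
    ⟨⊤, inferInstance, fun e => hP1 (eq_bot_iff.2 (e ▸ le_top))⟩
  have meets : ∀ V : Subgroup G, (S.P : Subgroup G) ≤ normalizer (V : Set G) → V ≠ ⊥ →
      ∃ t ∈ V, t ∈ (S.P : Subgroup G) ∧ t ≠ 1 := by
    intro V hV h1
    by_contra! h
    exact h1 (S.eq_bot_of_disjoint hV h)
  have hnormL : ∀ g : G, g ∈ normalizer (L : Set G) := fun g => by rw [normalizer_eq_top L]; exact mem_top g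
  have hPL : (S.P : Subgroup G) ≤ L :=
    S.le_of_invariant (meets L (fun g _ => hnormL g) hL1) fun n _ x hx _ => hLn.conj_mem x hx n
  have hLN : ¬ L ≤ normalizer ((S.P : Subgroup G) : Set G) := by
    intro hle
    refine hnn ⟨fun p hp g => S.mem_of_cube (hle (hLn.conj_mem p (hPL hp) g)) ?_⟩
    calc _ = g * (p * (p * p)) * g⁻¹ := by group
      _ = 1 := by rw [S.cube_P model8 hp]; group
  obtain ⟨M, ⟨hML, hLM, hM1⟩, hMmin⟩ := exists_minimal_of_wellFoundedLT
    (fun M : Subgroup G => M ≤ L ∧ L ≤ normalizer (M : Set G) ∧ M ≠ ⊥) ⟨L, le_rfl, fun g _ => hnormL g, hL1⟩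
  let cj : G → Subgroup G := fun g => M.map (MulAut.conj g).toMonoidHom
  have hcj : ∀ g x, x ∈ cj g ↔ g⁻¹ * x * g ∈ M := fun g x => by
    constructor
    · rintro ⟨y, hy, rfl⟩
      show g⁻¹ * (g * y * g⁻¹) * g ∈ M
      rwa [show g⁻¹ * (g * y * g⁻¹) * g = y by group]
    · intro h
      exact ⟨_, h, show g * (g⁻¹ * x * g) * g⁻¹ = x by group⟩
  have hcjP : ∀ g, cj g ≤ L ∧ L ≤ normalizer (cj g : Set G) ∧ cj g ≠ ⊥ := fun g =>
    ⟨fun x hx => by
      have := hLn.conj_mem _ (hML ((hcj g x).1 hx)) g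
      rwa [show g * (g⁻¹ * x * g) * g⁻¹ = x by group] at this,
    fun l hl => mem_normalizer_iff.2 fun x => by
      rw [hcj, hcj]
      have hl' : g⁻¹ * l * g ∈ normalizer (M : Set G) := hLM (by simpa using hLn.conj_mem l hl g⁻¹)
      rw [mem_normalizer_iff.1 hl' (g⁻¹ * x * g),
        show g⁻¹ * l * g * (g⁻¹ * x * g) * (g⁻¹ * l * g)⁻¹ = g⁻¹ * (l * x * l⁻¹) * g by group],
    fun e => hM1 ((Subgroup.map_eq_bot_iff_of_injective _ (MulAut.conj g).injective).1 e)⟩
  have hMn : M.Normal := by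
    by_contra hnot
    obtain ⟨g₀, hg₀⟩ : ∃ g, cj g ≠ M := by
      by_contra! h
      refine hnot ⟨fun x hx g => ?_⟩
      rw [← h g, hcj]
      rwa [show g⁻¹ * (g * x * g⁻¹) * g = x by group]
    have hcomm : ∀ g, cj g ≠ M → ∀ a ∈ M, ∀ b ∈ cj g, a * b = b * a := by
      intro g hg a ha b hb
      obtain ⟨hgL, hgN, -⟩ := hcjP g
      have h1 : a * b * a⁻¹ * b⁻¹ ∈ M := by
        rw [show a * b * a⁻¹ * b⁻¹ = a * (b * a⁻¹ * b⁻¹) by group]
        exact mul_mem ha ((mem_normalizer_iff.1 (hLM (hgL hb)) _).1 (inv_mem ha))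
      have h2 : a * b * a⁻¹ * b⁻¹ ∈ cj g :=
        mul_mem ((mem_normalizer_iff.1 (hgN (hML ha)) _).1 hb) (inv_mem hb)
      by_contra hne
      have hne' : M ⊓ cj g ≠ ⊥ := fun e => hne (by
        have : a * b * a⁻¹ * b⁻¹ = 1 := Subgroup.mem_bot.1 (e ▸ ⟨h1, h2⟩)
        calc a * b = a * b * a⁻¹ * b⁻¹ * (b * a) := by group
          _ = b * a := by rw [this, one_mul])
      have hle := hMmin ⟨inf_le_left.trans hML, fun l hl => mem_normalizer_iff.2 fun x => by
        simp only [Subgroup.mem_inf, mem_normalizer_iff.1 (hLM hl) x, mem_normalizer_iff.1 (hgN hl) x], hne'⟩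
        inf_le_left
      refine hg (Subgroup.eq_of_le_of_card_ge (hle.trans inf_le_right) ?_).symm
      rw [Subgroup.card_map_of_injective (MulAut.conj g).injective]
    have inN : ∀ g, cj g ≠ M → cj g ≤ normalizer ((S.P : Subgroup G) : Set G) ∧
        M ≤ normalizer ((S.P : Subgroup G) : Set G) := by
      intro g hg
      obtain ⟨t, ht, htP, ht1⟩ := meets M (hPL.trans hLM) hM1
      obtain ⟨u, hu, huP, hu1⟩ := meets (cj g) (hPL.trans (hcjP g).2.1) (hcjP g).2.2
      exact ⟨fun b hb => S.hC t htP ht1 (mem_centralizer_singleton_iff.2 (hcomm g hg t ht b hb).symm),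
        fun a ha => S.hC u huP hu1 (mem_centralizer_singleton_iff.2 (hcomm g hg a ha u hu))⟩
    have hall : ∀ g, cj g ≤ normalizer ((S.P : Subgroup G) : Set G) := by
      intro g
      by_cases e : cj g = M
      · exact e.le.trans (inN g₀ hg₀).2
      · exact (inN g e).1
    have hclos : Subgroup.normalClosure (M : Set G) ≤ normalizer ((S.P : Subgroup G) : Set G) := by
      rw [Subgroup.normalClosure, Subgroup.closure_le]
      intro x hx
      obtain ⟨a, ha, hax⟩ := Group.mem_conjugatesOfSet_iff.1 hx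
      obtain ⟨g, rfl⟩ := isConj_iff.1 hax
      exact hall g ((hcj g _).2 (by rwa [show g⁻¹ * (g * a * g⁻¹) * g = a by group]))
    refine hLN (le_trans (hLmin ⟨Subgroup.normalClosure_normal, fun e => hM1 (eq_bot_iff.2 ?_)⟩ ?_) hclos)
    · rw [← e]; exact Subgroup.le_normalClosure
    · exact Subgroup.normalClosure_le_normal hML
  have hML' : L ≤ M := hLmin ⟨hMn, hM1⟩ hML
  have : Nontrivial L := (Subgroup.nontrivial_iff_ne_bot _).2 hL1
  refine ⟨L, hLn, hPL, { eq_bot_or_eq_top_of_normal := fun H hH => ?_ }, fun hc => ?_⟩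
  · by_cases h : H = ⊥
    · exact Or.inl h
    refine Or.inr ?_
    have h' : H.map L.subtype ≠ ⊥ := fun e => h ((Subgroup.map_eq_bot_iff_of_injective _ L.subtype_injective).1 e)
    have hle := hMmin ⟨Subgroup.map_subtype_le _, fun l hl => mem_normalizer_iff.2 fun x => by
      constructor
      · rintro ⟨y, hy, rfl⟩
        exact ⟨⟨l, hl⟩ * y * ⟨l, hl⟩⁻¹, hH.conj_mem y hy _, rfl⟩
      · rintro ⟨y, hy, hxy⟩
        refine ⟨⟨l, hl⟩⁻¹ * y * ⟨l, hl⟩, by simpa using hH.conj_mem y hy ⟨l, hl⟩⁻¹, ?_⟩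
        show l⁻¹ * (y : G) * l = x
        rw [show (y : G) = l * x * l⁻¹ from hxy]; group, h'⟩ ((Subgroup.map_subtype_le _).trans hML')
    refine (Subgroup.eq_top_iff' H).2 fun y => ?_
    obtain ⟨z, hz, e⟩ := hle (hML' y.2)
    exact Subtype.ext e ▸ hz
  · refine hLN (le_trans (fun x hx => ?_) Subgroup.le_normalizer)
    exact S.self_cent fun t ht => congrArg Subtype.val (hc.is_comm.comm ⟨x, hx⟩ ⟨t, hPL ht⟩)

/-- The setup of a normal subgroup containing the Sylow subgroup. -/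
theorem exists_sub {K : Type} [Group K] {L : Subgroup G} (hPL : (S.P : Subgroup G) ≤ L) (ι : K →* K8)
    (hι : Function.Injective ι) {D : Finset (DihedralGroup 4)} (himg : ∀ x, (ι x).q ∈ D)
    (hsurj : ∀ k : K8, k.q ∈ D → ∃ x, ι x = k) (hD : ∀ k : K8, S.φ k ∈ L ↔ k.q ∈ D) :
    ∃ T : Setup L K, (T.P : Subgroup L) = (S.P : Subgroup G).subgroupOf L := by
  have hnorm : normalizer (((S.P : Subgroup G).subgroupOf L) : Set L) =
      (normalizer ((S.P : Subgroup G) : Set G)).subgroupOf L := (Subgroup.subgroupOf_normalizer_eq hPL).symm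
  refine ⟨{ φ := (S.φ.comp ι).codRestrict L fun x => (hD _).2 (himg x)
            inj := fun a b h => hι (S.inj (congrArg Subtype.val h))
            P := S.P.subtype hPL
            card9 := by
              rw [Sylow.coe_subtype, Nat.card_congr (subgroupOfEquivOfLe hPL).toEquiv, S.card9]
            range := ?_
            hC := ?_ }, S.P.coe_subtype hPL⟩
  · rw [Sylow.coe_subtype, hnorm]
    ext x
    rw [mem_subgroupOf, ← S.range]
    constructor
    · rintro ⟨y, rfl⟩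
      exact ⟨ι y, rfl⟩
    · rintro ⟨k, hk⟩
      obtain ⟨y, rfl⟩ := hsurj k ((hD k).1 (hk ▸ x.2))
      exact ⟨y, Subtype.ext hk⟩
  · rw [Sylow.coe_subtype, hnorm]
    intro t ht ht1 x hx
    rw [mem_subgroupOf] at ht ⊢
    exact S.hC t ht (fun e => ht1 (Subtype.ext e))
      (mem_centralizer_singleton_iff.2 (congrArg Subtype.val (mem_centralizer_singleton_iff.1 hx)))

/-- The outcome when the simple normal subgroup is given. -/
theorem sym_six {L : Subgroup G} [L.Normal] (hPL : (S.P : Subgroup G) ≤ L) (hidx : L.index = 2) (h360 : Nat.card L = 360)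
    (e : L ≃* alternatingGroup (Fin 6)) (hD : ∀ k : K8, S.φ k ∈ L ↔ k.q ∈ dC) :
    Nonempty (G ≃* Perm (Fin 6)) := by
  have : Fact (Nat.Prime 2) := ⟨Nat.prime_two⟩
  obtain ⟨hrq, hrfix⟩ := reflection_out
  obtain ⟨s, hs⟩ : ∃ s, s = S.φ (⟨0, .sr 2⟩ : K8) := ⟨_, rfl⟩
  have hsL : s ∉ L := fun h => hrq ((hD _).1 (hs ▸ h))
  have hyP : S.φ (⟨(1, 0), 1⟩ : K8) ∈ (S.P : Subgroup G) := (S.mem_iff model8 _).2 (by decide +kernel)
  let Ψ : G →* MulAut (alternatingGroup (Fin 6)) :=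
    (MulAut.congr e).toMonoidHom.comp (MulAut.conjNormal (H := L))
  have hΨ : ∀ (g : G) (x : L), Ψ g (e x) = e (MulAut.conjNormal g x) := fun g x => by
    show e (MulAut.conjNormal g (e.symm (e x))) = _
    rw [MulEquiv.symm_apply_apply]
  have hinj : Function.Injective Ψ := by
    refine (injective_iff_map_eq_one Ψ).2 fun g hg => ?_
    have hfix : ∀ x : L, g * (x : G) * g⁻¹ = x := fun x => by
      have h := hΨ g x
      rw [hg, MulAut.one_apply] at h
      have := congrArg Subtype.val (e.injective h).symm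
      rwa [MulAut.conjNormal_apply] at this
    have hgP : g ∈ (S.P : Subgroup G) := S.self_cent fun t ht => mul_inv_eq_iff_eq_mul.1 (hfix ⟨t, hPL ht⟩)
    have hgc : ∀ x : L, (⟨g, hPL hgP⟩ : L) * x = x * ⟨g, hPL hgP⟩ := fun x =>
      Subtype.ext (mul_inv_eq_iff_eq_mul.1 (hfix x))
    have hc := alternatingGroup.center_eq_bot (α := Fin 6) (by rw [Nat.card_eq_fintype_card, Fintype.card_fin]; norm_num)
    have hm : e ⟨g, hPL hgP⟩ ∈ Subgroup.center (alternatingGroup (Fin 6)) := Subgroup.mem_center_iff.2 fun y => by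
      obtain ⟨x, rfl⟩ := e.surjective y
      rw [← map_mul, ← map_mul, hgc]
    rw [hc, Subgroup.mem_bot, MulEquiv.map_eq_one_iff] at hm
    exact congrArg Subtype.val hm
  have hrange : ∀ g : G, Ψ g ∈ (MulAut.conjNormal : Perm (Fin 6) →* MulAut (alternatingGroup (Fin 6))).range := by
    have hn : ∀ n : L, Ψ (n : G) ∈ (MulAut.conjNormal : Perm (Fin 6) →* MulAut (alternatingGroup (Fin 6))).range := by
      refine fun n => ⟨(e n : Perm (Fin 6)), MulEquiv.ext fun x => ?_⟩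
      obtain ⟨m, rfl⟩ := e.surjective x
      rw [hΨ]
      refine Subtype.ext ?_
      rw [MulAut.conjNormal_apply, show MulAut.conjNormal (n : G) m = n * m * n⁻¹ from
        Subtype.ext (by rw [MulAut.conjNormal_apply]; rfl), map_mul, map_mul, map_inv]
      rfl
    have ht : Ψ s ∈ (MulAut.conjNormal : Perm (Fin 6) →* MulAut (alternatingGroup (Fin 6))).range := by
      refine Cfsg.Lib.SolvStruct.AltAut.exists_conjNormal_eq (by norm_num) _ ?_
      refine Cfsg.Lib.TwoSymFour.preserves_three (Ψ s) (y := e ⟨_, hPL hyP⟩) ?_ ?_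
      · rw [MulEquiv.orderOf_eq, Subgroup.orderOf_mk]
        exact orderOf_eq_prime (p := 3) (by rw [pow_succ', pow_two]; exact S.cube_P model8 hyP)
          (S.φ_ne model8 (by decide +kernel))
      · rw [hΨ]
        refine congrArg e (Subtype.ext ?_)
        rw [MulAut.conjNormal_apply, hs]
        show S.φ _ * S.φ _ * (S.φ _)⁻¹ = S.φ _
        rw [← map_inv, ← map_mul, ← map_mul, hrfix]
    intro g
    by_cases hg : g ∈ L
    · exact hn ⟨g, hg⟩
    · have hgs : g * s⁻¹ ∈ L := (mul_mem_iff_of_index_two hidx).2 (iff_of_false hg (fun h => hsL (inv_mem_iff.1 h)))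
      rw [show g = g * s⁻¹ * s by group, map_mul]
      exact mul_mem (hn ⟨_, hgs⟩) ht
  have hci := Cfsg.Lib.SolvStruct.AltAut.conjNormal_injective (n := 6) (by norm_num)
  let f := MonoidHom.ofInjective hci
  let F : G →* Perm (Fin 6) := f.symm.toMonoidHom.comp (Ψ.codRestrict _ hrange)
  have hFinj : Function.Injective F :=
    f.symm.injective.comp fun a b hab => hinj (congrArg Subtype.val hab)
  have hGc : Nat.card G = Nat.card (Perm (Fin 6)) := by
    rw [← L.card_mul_index, hidx, h360, Nat.card_perm, Nat.card_fin]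
    rfl
  exact ⟨MulEquiv.ofBijective F (hFinj.bijective_of_nat_card_le hGc.ge)⟩

theorem main : (S.P : Subgroup G).Normal ∨ Nonempty (G ≃* Perm (Fin 6)) := by
  classical
  by_cases hnn : (S.P : Subgroup G).Normal
  · exact Or.inl hnn
  refine Or.inr ?_
  have : Fact (Nat.Prime 3) := ⟨Nat.prime_three⟩
  obtain ⟨L, hLn, hPL, hsimp, hnab⟩ := S.exists_simple_normal hnn
  have hsup : L ⊔ normalizer ((S.P : Subgroup G) : Set G) = ⊤ := by
    rw [sup_comm]; exact Sylow.normalizer_sup_eq_top' S.P hPL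
  -- the part of the automizer
  obtain ⟨D, hDdef⟩ : ∃ D : Finset (DihedralGroup 4), D = Finset.univ.filter fun q => S.φ ⟨0, q⟩ ∈ L := ⟨_, rfl⟩
  have hD : ∀ k : K8, S.φ k ∈ L ↔ k.q ∈ D := by
    intro k
    have hk : k = ⟨k.v, 1⟩ * ⟨0, k.q⟩ := by
      rw [Aff.mul_def]; ext1
      · simp [app_zero]
      · simp
    have hv : S.φ (⟨k.v, 1⟩ : K8) ∈ L := hPL ((S.mem_iff model8 _).2 ((cube_iff8 _).2 rfl))
    rw [hDdef, Finset.mem_filter]
    simp only [Finset.mem_univ, true_and]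
    conv_lhs => rw [hk, map_mul]
    exact Subgroup.mul_mem_cancel_left _ hv
  have hD1 : (1 : DihedralGroup 4) ∈ D := (hD 1).1 (by rw [map_one]; exact L.one_mem)
  have hDm : ∀ p ∈ D, ∀ q ∈ D, p * q ∈ D := fun p hp q hq => by
    have := (hD (⟨0, p⟩ * ⟨0, q⟩ : K8)).1 (by rw [map_mul]; exact mul_mem ((hD _).2 hp) ((hD _).2 hq))
    exact this
  have hDc : ∀ p ∈ D, ∀ q : DihedralGroup 4, q * p * q⁻¹ ∈ D := fun p hp q => by
    have := (hD ((⟨0, q⟩ : K8) * ⟨0, p⟩ * (⟨0, q⟩ : K8)⁻¹)).1 (by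
      rw [map_mul, map_mul, map_inv]; exact hLn.conj_mem _ ((hD _).2 hp) _)
    exact this
  -- cardinalities
  obtain ⟨k, hk⟩ : ∃ k, k = (normalizer ((S.P : Subgroup G) : Set G)).index := ⟨_, rfl⟩
  have hk9 : k % 9 = 1 := hk ▸ S.index_mod model8
  have hk10 : 10 ≤ k := by
    have : k ≠ 1 := fun e => hnn (normalizer_eq_top_iff.1 (index_eq_one.1 (hk ▸ e)))
    omega
  have hG : Nat.card G = 72 * k := by rw [hk, S.card_eq model8]; rfl
  have hLNcard : Nat.card (normalizer ((S.P : Subgroup G) : Set G) ⊓ L : Subgroup G) = 9 * D.card := by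
    rw [← card_dset D, ← Nat.card_eq_finsetCard]
    refine (Nat.card_congr (Equiv.ofBijective (fun x => ⟨S.φ x.1, S.mem_norm _, (hD _).2 (Finset.mem_filter.1 x.2).2⟩) ⟨?_, ?_⟩)).symm
    · exact fun a b h => Subtype.ext (S.inj (congrArg Subtype.val h))
    · rintro ⟨x, hxN, hxL⟩
      obtain ⟨y, rfl⟩ := S.exists_pre hxN
      exact ⟨⟨y, Finset.mem_filter.2 ⟨Finset.mem_univ _, (hD y).1 hxL⟩⟩, rfl⟩
  have hrel : (normalizer ((S.P : Subgroup G) : Set G)).relIndex L = k := by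
    set N := normalizer ((S.P : Subgroup G) : Set G)
    have h1 : (N ⊓ L).relIndex L * L.index = (N ⊓ L).index := Subgroup.relIndex_mul_index inf_le_right
    have h2 : (N ⊓ L).relIndex N * N.index = (N ⊓ L).index := Subgroup.relIndex_mul_index inf_le_left
    have h3 : L.relIndex N = L.index := by
      rw [← Subgroup.relIndex_sup_right (H := N) (K := L), sup_comm, hsup, Subgroup.relIndex_top_right]
    rw [inf_relIndex_right] at h1
    rw [inf_comm, inf_relIndex_right, h3, inf_comm, ← h1, mul_comm, ← hk] at h2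
    exact (Nat.eq_of_mul_eq_mul_right (Nat.pos_of_ne_zero L.index_ne_zero_of_finite) h2).symm
  have hcardL : Nat.card L = 9 * D.card * k := by
    have h1 := (normalizer ((S.P : Subgroup G) : Set G) ⊓ L).subgroupOf L |>.card_mul_index
    rw [Nat.card_congr (subgroupOfEquivOfLe inf_le_right).toEquiv, hLNcard,
      show ((normalizer ((S.P : Subgroup G) : Set G) ⊓ L).subgroupOf L).index = k from
        (inf_relIndex_right _ _).trans hrel] at h1
    exact h1.symm
  let PL : Sylow 3 L := S.P.subtype hPL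
  have hPLc : Nat.card (PL : Subgroup L) = 9 := by
    rw [Sylow.coe_subtype, Nat.card_congr (subgroupOfEquivOfLe hPL).toEquiv, S.card9]
  have hPLmem : ∀ x : L, x ∈ (PL : Subgroup L) ↔ (x : G) ∈ (S.P : Subgroup G) := fun x => by
    rw [Sylow.coe_subtype, mem_subgroupOf]
  have hcyc : D ⊆ dC → Nat.card L = 360 := by
    intro hsub
    refine Cfsg.Lib.NineTI.order_three_sixty PL _ rfl (IsPGroup.isMulCommutative_of_card_eq_prime_sq (p := 3) (by rw [hPLc]; rfl))
      (fun a ha => Subtype.ext (by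
        rw [SubmonoidClass.coe_pow, pow_succ', pow_two]; exact S.cube_P model8 ((hPLmem a).1 ha)))
      hPLc ?_ ?_
    · obtain ⟨r0, hr0, hr1⟩ : ∃ r0 r1 : L, (r0 : G) = S.φ (⟨(1, 0), 1⟩ : K8) ∧ (r1 : G) = S.φ (⟨(1, 1), 1⟩ : K8) :=
        ⟨⟨_, hPL ((S.mem_iff model8 _).2 reps_ok.1.1)⟩, ⟨_, hPL ((S.mem_iff model8 _).2 reps_ok.2.1)⟩, rfl, rfl⟩
      obtain ⟨h0, h1⟩ := hr1
      have ho : ∀ {r : L} {c : K8}, (r : G) = S.φ c → Cube c → c ≠ 1 → orderOf r = 3 := fun {r c} e hc hc1 => by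
        rw [← Subgroup.orderOf_coe, e]
        exact orderOf_eq_prime (p := 3) (by rw [pow_succ', pow_two, ← map_mul, ← map_mul, hc, map_one]) (S.φ_ne model8 hc1)
      refine ⟨r0, hr0, ho h0 reps_ok.1.1 reps_ok.1.2, ho h1 reps_ok.2.1 reps_ok.2.2,
        fun g hg => ?_⟩
      have hg' : (g : G) * S.φ (⟨(1, 0), 1⟩ : K8) * (g : G)⁻¹ = S.φ (⟨(1, 1), 1⟩ : K8) := by
        rw [← h0, ← h1, ← hg]; simp
      obtain ⟨c, hc⟩ := S.exists_pre (S.ti model8 ((S.mem_iff model8 _).2 reps_ok.1.1)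
        (S.φ_ne model8 reps_ok.1.2) (hg' ▸ (S.mem_iff model8 _).2 reps_ok.2.1))
      rw [← hc, ← map_inv, ← map_mul, ← map_mul] at hg'
      exact cyc_classes c (hsub ((hD c).1 (hc ▸ g.2))) (S.inj hg')
    · intro t ht ht1
      obtain ⟨r, hr, hrt⟩ := S.exists_el model8 ((hPLmem t).1 ht)
      have hr1 : r ≠ 1 := fun e => ht1 (Subtype.ext (by rw [← hrt, e, map_one]; rfl))
      ext x
      constructor
      · intro hx
        have hx' := congrArg Subtype.val (mem_centralizer_singleton_iff.1 hx)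
        simp only [Subgroup.coe_mul] at hx'
        obtain ⟨c, hc⟩ := S.exists_pre (S.hC _ ((hPLmem t).1 ht) (fun e => ht1 (Subtype.ext e))
          (mem_centralizer_singleton_iff.2 hx'))
        rw [hPLmem, ← hc]
        rw [← hrt, ← hc, ← map_mul, ← map_mul] at hx'
        exact (S.mem_iff model8 c).2 ((cube_iff8 c).2
          (cyc_cent c r (hsub ((hD c).1 (hc ▸ x.2))) hr hr1 (S.inj hx')))
      · intro hx
        exact mem_centralizer_singleton_iff.2 (Subtype.ext (S.comm_P model8 ((hPLmem x).1 hx) ((hPLmem t).1 ht)))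
  rcases normal_list D hD1 hDm hDc with e | e | e | e | e | e
  · -- Burnside
    exfalso
    subst e
    have hle : normalizer ((PL : Subgroup L) : Set L) ≤ centralizer ((PL : Subgroup L) : Set L) := by
      intro x hx
      refine mem_centralizer_iff.2 fun t ht => Subtype.ext ?_
      rw [Sylow.coe_subtype, ← Subgroup.subgroupOf_normalizer_eq hPL, mem_subgroupOf] at hx
      obtain ⟨c, hc⟩ := S.exists_pre hx
      obtain ⟨r, hr, hrt⟩ := S.exists_el model8 ((hPLmem t).1 ht)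
      show (t : G) * x = x * t
      rw [← hc, ← hrt, ← map_mul, ← map_mul,
        small_comm r c (by rw [(cube_iff8 r).1 hr]; decide) ((hD c).1 (hc ▸ x.2))]
    have hcompl := MonoidHom.ker_transferSylow_isComplement' PL hle
    rcases (MonoidHom.normal_ker (MonoidHom.transferSylow PL hle)).eq_bot_or_eq_top with hb | ht
    · rw [hb, Subgroup.isComplement'_bot_left] at hcompl
      have := IsPGroup.isMulCommutative_of_card_eq_prime_sq (p := 3) (G := (PL : Subgroup L)) (by rw [hPLc]; rfl)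
      exact hnab ⟨⟨fun a b => congrArg Subtype.val
        (this.is_comm.comm ⟨a, hcompl ▸ mem_top a⟩ ⟨b, hcompl ▸ mem_top b⟩)⟩⟩
    · rw [ht, Subgroup.isComplement'_top_left] at hcompl
      rw [hcompl, Subgroup.card_bot] at hPLc
      omega
  · exfalso
    have h := hcyc (e ▸ dZ_sub.1)
    rw [hcardL, e, show dZ.card = 2 by decide] at h
    omega
  · have h := hcyc e.le
    obtain ⟨f⟩ := Cfsg.Lib.Components.OrderThreeSixty.iso_alternating (G := L) h
    have h0 := h
    rw [hcardL, e, show dC.card = 4 by decide] at h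
    refine S.sym_six hPL ?_ h0 f (e ▸ hD)
    have := L.card_mul_index
    rw [hcardL, e, show dC.card = 4 by decide, hG] at this
    have hk' : k = 10 := by omega
    subst hk'
    omega
  · exfalso
    obtain ⟨T, hT⟩ := S.exists_sub hPL homA homA_image.2.2 (e ▸ homA_image.1) (e ▸ homA_image.2.1) hD
    refine klein_false T fun htop => ?_
    rw [hT, ← Subgroup.subgroupOf_normalizer_eq hPL, subgroupOf_eq_top] at htop
    have hh := hrel
    rw [Subgroup.relIndex_eq_one.2 htop] at hh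
    omega
  · exfalso
    obtain ⟨T, hT⟩ := S.exists_sub hPL homB homB_image.2.2 (e ▸ homB_image.1) (e ▸ homB_image.2.1) hD
    refine klein_false T fun htop => ?_
    rw [hT, ← Subgroup.subgroupOf_normalizer_eq hPL, subgroupOf_eq_top] at htop
    have hh := hrel
    rw [Subgroup.relIndex_eq_one.2 htop] at hh
    omega
  · exfalso
    have hLtop : L = ⊤ := by
      rw [eq_top_iff, ← hsup]
      refine sup_le le_rfl fun x hx => ?_
      obtain ⟨c, rfl⟩ := S.exists_pre hx
      exact (hD c).2 (e ▸ Finset.mem_univ _)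
    subst hLtop
    let eG : (⊤ : Subgroup G) ≃* G := Subgroup.topEquiv
    have : IsSimpleGroup G := eG.symm.isSimpleGroup
    have hnG : ¬ IsMulCommutative G := fun h =>
      hnab ⟨⟨fun a b => eG.injective (by rw [map_mul, map_mul]; exact h.is_comm.comm _ _)⟩⟩
    exact eight_false hnG S fun χ hχ => principal_of_deg_one hnG χ hχ

end Setup

end Cfsg.Lib.Order9
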