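import Cfsg.Agent.LocalThree.Order9.Model
import Cfsg.Agent.LocalThree.GramSplit
import Cfsg.Agent.Chars.Sums
import Cfsg.Agent.Chars.Count
import Cfsg.Agent.Chars.Induced
import Cfsg.Agent.Chars.Galois

/-!
A Sylow subgroup of order nine whose normaliser is given by a model and contains the centralisers of
its nontrivial elements: fusion, class multiplication and exceptional characters.
-/

set_option autoImplicit false
set_option linter.unusedSectionVars false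

namespace Cfsg.Lib.Order9

open Subgroup Cfsg.Lib.Chars Cfsg.Lib.GramSplit
open scoped ComplexConjugate Pointwise

universe u

/-- The properties of a model which are checked by computation. -/
structure IsModel (K : Type) [Group K] [Fintype K] [DecidableEq K] : Prop where
  comm : ∀ a b : K, Cube a → Cube b → a * b = b * a
  four : ∀ k : K, Cube (k * k * (k * k))
  nine : ∀ k : K, Cube (k * (k * k)) → Cube k
  count : (Finset.univ.filter fun k : K => Cube k).card = 9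

variable {G : Type u} [Group G] [Finite G] {K : Type} [Group K] [Fintype K] [DecidableEq K]

/-- The data. -/
structure Setup (G : Type u) [Group G] (K : Type) [Group K] where
  φ : K →* G
  inj : Function.Injective φ
  P : Sylow 3 G
  card9 : Nat.card (P : Subgroup G) = 9
  range : φ.range = normalizer ((P : Subgroup G) : Set G)
  hC : ∀ t ∈ (P : Subgroup G), t ≠ 1 → centralizer ({t} : Set G) ≤ normalizer ((P : Subgroup G) : Set G)

namespace Setup

variable (S : Setup G K) (hK : IsModel K)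

include S

theorem mem_norm (k : K) : S.φ k ∈ normalizer ((S.P : Subgroup G) : Set G) := S.range ▸ ⟨k, rfl⟩

theorem exists_pre {x : G} (hx : x ∈ normalizer ((S.P : Subgroup G) : Set G)) : ∃ k, S.φ k = x := by
  rw [← S.range] at hx; exact hx

theorem mem_of_cube {x : G} (hx : x ∈ normalizer ((S.P : Subgroup G) : Set G)) (h3 : x * (x * x) = 1) :
    x ∈ (S.P : Subgroup G) := by
  have : Fact (Nat.Prime 3) := ⟨Nat.prime_three⟩
  have hp : IsPGroup 3 (zpowers x) := by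
    intro q
    refine ⟨1, Subtype.ext ?_⟩
    obtain ⟨i, hi⟩ := q.2
    show (q : G) ^ (3 ^ 1) = 1
    rw [← hi, pow_one, ← zpow_natCast, ← zpow_mul, mul_comm, zpow_mul, zpow_natCast,
      show x ^ 3 = 1 by rw [pow_succ', pow_two, h3], one_zpow]
  have hle : zpowers x ≤ normalizer ((S.P : Subgroup G) : Set G) := zpowers_le.2 hx
  have hsup : IsPGroup 3 ↥(zpowers x ⊔ (S.P : Subgroup G)) := hp.to_sup_of_normal_right' S.P.2 hle
  exact S.P.3 hsup le_sup_right ▸ Subgroup.mem_sup_left (mem_zpowers x)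

include hK

theorem mem_iff (k : K) : S.φ k ∈ (S.P : Subgroup G) ↔ Cube k := by
  refine ⟨fun h => hK.nine k ?_, fun h => S.mem_of_cube (S.mem_norm k) (by rw [← map_mul, ← map_mul, h, map_one])⟩
  refine S.inj ?_
  have h9 : S.φ k ^ 9 = 1 := orderOf_dvd_iff_pow_eq_one.1 (by
    rw [← S.card9, ← Subgroup.orderOf_mk (S.φ k) h]; exact orderOf_dvd_natCard _)
  rw [map_one, ← h9]
  simp only [map_mul, pow_succ, pow_zero, one_mul, mul_assoc]

theorem exists_el {t : G} (ht : t ∈ (S.P : Subgroup G)) : ∃ k, Cube k ∧ S.φ k = t := by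
  obtain ⟨k, rfl⟩ := S.exists_pre (Subgroup.le_normalizer ht)
  exact ⟨k, (S.mem_iff hK k).1 ht, rfl⟩

theorem comm_P {a b : G} (ha : a ∈ (S.P : Subgroup G)) (hb : b ∈ (S.P : Subgroup G)) : a * b = b * a := by
  obtain ⟨j, hj, rfl⟩ := S.exists_el hK ha
  obtain ⟨k, hk, rfl⟩ := S.exists_el hK hb
  rw [← map_mul, ← map_mul, hK.comm j k hj hk]

theorem cube_P {a : G} (ha : a ∈ (S.P : Subgroup G)) : a * (a * a) = 1 := by
  obtain ⟨j, hj, rfl⟩ := S.exists_el hK ha
  rw [← map_mul, ← map_mul, hj, map_one]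

theorem ti {g t : G} (ht : t ∈ (S.P : Subgroup G)) (ht1 : t ≠ 1) (hg : g * t * g⁻¹ ∈ (S.P : Subgroup G)) :
    g ∈ normalizer ((S.P : Subgroup G) : Set G) := by
  refine Subgroup.mem_normalizer_iff_map_conj_eq.2 ?_
  refine Subgroup.eq_of_le_of_card_ge (fun a ha => ?_) (by
    rw [Subgroup.card_map_of_injective (MulAut.conj g).injective])
  obtain ⟨b, hb, rfl⟩ := ha
  have hne : g * t * g⁻¹ ≠ 1 := fun h => ht1 (by simpa using conj_eq_one_iff.1 h)
  show g * b * g⁻¹ ∈ (S.P : Subgroup G)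
  refine S.mem_of_cube (S.hC _ hg hne (mem_centralizer_singleton_iff.2 (by
    calc g * b * g⁻¹ * (g * t * g⁻¹) = g * (b * t) * g⁻¹ := by group
      _ = g * t * g⁻¹ * (g * b * g⁻¹) := by rw [S.comm_P hK hb ht]; group))) ?_
  calc _ = g * (b * (b * b)) * g⁻¹ := by group
    _ = 1 := by rw [S.cube_P hK hb]; group

theorem φ_ne {k : K} (h : k ≠ 1) : S.φ k ≠ 1 := fun e => h (S.inj (e.trans S.φ.map_one.symm))

theorem conj_iff {r k : K} (hr : Cube r) (hr1 : r ≠ 1) (hk : Cube k) :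
    IsConj (S.φ r) (S.φ k) ↔ ConjK k r := by
  constructor
  · intro h
    obtain ⟨g, hg⟩ := isConj_iff.1 h
    obtain ⟨c, rfl⟩ := S.exists_pre (S.ti hK ((S.mem_iff hK r).2 hr) (S.φ_ne hK hr1)
      (hg ▸ (S.mem_iff hK k).2 hk))
    exact ⟨c, S.inj (by rw [map_mul, map_mul, map_inv]; exact hg)⟩
  · rintro ⟨c, rfl⟩
    exact isConj_iff.2 ⟨S.φ c, by rw [map_mul, map_mul, map_inv]⟩

theorem card_centralizer {r : K} (hr : Cube r) (hr1 : r ≠ 1) :
    Nat.card (centralizer ({S.φ r} : Set G)) = (Finset.univ.filter fun k : K => k * r = r * k).card := by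
  rw [← Nat.card_eq_finsetCard]
  refine (Nat.card_congr (Equiv.ofBijective (fun k => ⟨S.φ k.1, mem_centralizer_singleton_iff.2 (by
      rw [← map_mul, ← map_mul, (Finset.mem_filter.1 k.2).2])⟩) ⟨?_, ?_⟩)).symm
  · exact fun a b h => Subtype.ext (S.inj (congrArg Subtype.val h))
  · rintro ⟨x, hx⟩
    obtain ⟨k, rfl⟩ := S.exists_pre (S.hC _ ((S.mem_iff hK r).2 hr) (S.φ_ne hK hr1) hx)
    refine ⟨⟨k, Finset.mem_filter.2 ⟨Finset.mem_univ _, S.inj ?_⟩⟩, rfl⟩
    rw [map_mul, map_mul]; exact mem_centralizer_singleton_iff.1 hx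

set_option maxHeartbeats 800000 in
/-- Products of two elements of order three lie in the subgroup. -/
theorem triangle {x y : G} (hx : x * (x * x) = 1) (hy : y * (y * y) = 1) {c : G} (hc : c ∈ (S.P : Subgroup G))
    (hc1 : c ≠ 1) (hxy : x * y = c) (hne' : ¬ IsConj x c⁻¹) :
    x ∈ (S.P : Subgroup G) ∧ y ∈ (S.P : Subgroup G) := by
  have : Fact (Nat.Prime 3) := ⟨Nat.prime_three⟩
  have hcc := S.cube_P hK hc
  have x2 : x⁻¹ = x * x := inv_eq_of_mul_eq_one_right hx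
  obtain ⟨u, hu⟩ : ∃ u, u = x * y⁻¹ := ⟨_, rfl⟩
  obtain ⟨v, hv⟩ : ∃ v, v = y⁻¹ * x := ⟨_, rfl⟩
  have hxv : x⁻¹ * u * x = v := by rw [hu, hv]; group
  have h3 : x * y * (x * y * (x * y)) = 1 := by rw [hxy]; exact hcc
  have huv : u * v = v * u := by
    rw [hu, hv]
    calc x * y⁻¹ * (y⁻¹ * x) = x * (y * (y * y))⁻¹ * y * x := by group
      _ = x * y * x := by rw [hy, inv_one, mul_one]
      _ = (y * x * y)⁻¹ := eq_inv_of_mul_eq_one_left (by rw [← h3]; group)
      _ = y⁻¹ * x⁻¹ * y⁻¹ := by group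
      _ = y⁻¹ * x * (x * y⁻¹) := by rw [x2]; group
  have hxv' : x⁻¹ * v * x = (u * v)⁻¹ := by
    rw [hu, hv]
    calc x⁻¹ * (y⁻¹ * x) * x = x⁻¹ * y⁻¹ * (x * x) := by group
      _ = x⁻¹ * y⁻¹ * x⁻¹ := by rw [← x2]
      _ = (x * y * x)⁻¹ := by group
      _ = (x * (y * (y * y))⁻¹ * y * x)⁻¹ := by rw [hy, inv_one, mul_one]
      _ = (x * y⁻¹ * (y⁻¹ * x))⁻¹ := by group
  obtain ⟨A, hA⟩ : ∃ A : Subgroup G, A = closure {u, v} := ⟨_, rfl⟩
  have huA : u ∈ A := hA ▸ subset_closure (Set.mem_insert _ _)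
  have hvA : v ∈ A := hA ▸ subset_closure (Set.mem_insert_of_mem _ rfl)
  have hab : ∀ a ∈ A, ∀ b ∈ A, a * b = b * a := by
    have := Subgroup.isMulCommutative_closure (k := ({u, v} : Set G)) (by
      intro a ha b hb
      rcases ha with rfl | rfl <;> rcases hb with rfl | rfl
      exacts [rfl, huv, huv.symm, rfl])
    intro a ha b hb
    rw [hA] at ha hb
    exact congrArg Subtype.val (this.is_comm.comm ⟨a, ha⟩ ⟨b, hb⟩)
  have hxA : ∀ a ∈ A, x⁻¹ * a * x ∈ A := by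
    intro a ha
    have hle : A ≤ A.comap (MulAut.conj x⁻¹).toMonoidHom := by
      conv_lhs => rw [hA]
      refine (Subgroup.closure_le _).2 ?_
      rintro b (rfl | rfl)
      · show x⁻¹ * b * x⁻¹⁻¹ ∈ A
        rw [inv_inv, hxv]; exact hvA
      · show x⁻¹ * b * x⁻¹⁻¹ ∈ A
        rw [inv_inv, hxv']; exact inv_mem (mul_mem huA hvA)
    simpa using hle ha
  have hxA' : ∀ a ∈ A, x * a * x⁻¹ ∈ A := fun a ha => by
    have := hxA _ (hxA a ha)
    convert this using 1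
    calc x * a * x⁻¹ = (x * (x * x)) * (x⁻¹ * (x⁻¹ * a * x) * x) * (x * (x * x))⁻¹ := by group
      _ = x⁻¹ * (x⁻¹ * a * x) * x := by rw [hx]; group
  have hxn : zpowers x ≤ normalizer (A : Set G) := zpowers_le.2 (mem_normalizer_iff.2 fun a =>
    ⟨fun ha => hxA' a ha, fun ha => by simpa [mul_assoc] using hxA _ ha⟩)
  obtain ⟨H, hH⟩ : ∃ H : Subgroup G, H = A ⊔ zpowers x := ⟨_, rfl⟩
  have hxH : x ∈ H := hH ▸ Subgroup.mem_sup_right (mem_zpowers x)
  have hyA : y = u⁻¹ * x := by rw [hu]; group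
  have hcH : c ∈ H := by
    rw [← hxy]
    exact mul_mem hxH (by rw [hyA]; exact mul_mem (inv_mem (hH ▸ Subgroup.mem_sup_left huA)) hxH)
  have pg : ∀ w : H, (w : G) * (w * w) = 1 → IsPGroup 3 (zpowers w) := by
    intro w hw q
    refine ⟨1, Subtype.ext ?_⟩
    obtain ⟨i, hi⟩ := q.2
    show (q : H) ^ (3 ^ 1) = 1
    rw [← hi, pow_one, ← zpow_natCast, ← zpow_mul, mul_comm, zpow_mul, zpow_natCast,
      show w ^ 3 = 1 from Subtype.ext (by push_cast; rw [pow_succ', pow_two, hw]), one_zpow]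
  obtain ⟨P₁, hP₁⟩ := (pg ⟨x, hxH⟩ hx).exists_le_sylow
  obtain ⟨P₂, hP₂⟩ := (pg ⟨c, hcH⟩ hcc).exists_le_sylow
  obtain ⟨k, hk⟩ := MulAction.exists_smul_eq H P₁ P₂
  obtain ⟨Q, hQ⟩ := (P₂.2.map H.subtype).exists_le_sylow
  obtain ⟨g, hg⟩ := MulAction.exists_smul_eq G Q S.P
  have hgP : ∀ z ∈ (P₂ : Subgroup H).map H.subtype, g * z * g⁻¹ ∈ (S.P : Subgroup G) := fun z hz => by
    rw [← hg, Sylow.coe_subgroup_smul]; exact ⟨z, hQ hz, rfl⟩
  have hxk : (k : G) * x * (k : G)⁻¹ ∈ (P₂ : Subgroup H).map H.subtype := ⟨k * ⟨x, hxH⟩ * k⁻¹, by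
    rw [← hk, Sylow.coe_subgroup_smul]; exact ⟨_, hP₁ (mem_zpowers _), rfl⟩, rfl⟩
  have hxkP : (k : G) * x * (k : G)⁻¹ ∈ (S.P : Subgroup G) := by
    refine S.mem_of_cube (S.hC c hc hc1 (mem_centralizer_singleton_iff.2 ?_)) ?_
    · have h := S.comm_P hK (hgP _ hxk) (hgP c ⟨⟨c, hcH⟩, hP₂ (mem_zpowers _), rfl⟩)
      calc (k : G) * x * (k : G)⁻¹ * c = g⁻¹ * (g * ((k : G) * x * (k : G)⁻¹) * g⁻¹ * (g * c * g⁻¹)) * g := by group
        _ = g⁻¹ * (g * c * g⁻¹ * (g * ((k : G) * x * (k : G)⁻¹) * g⁻¹)) * g := by rw [h]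
        _ = _ := by group
    · calc _ = (k : G) * (x * (x * x)) * (k : G)⁻¹ := by group
        _ = 1 := by rw [hx]; group
  have hkH : (k : G) ∈ (A : Set G) * (zpowers x : Set G) := by
    rw [← Subgroup.coe_mul_of_right_le_normalizer_left A _ hxn, ← hH]; exact k.2
  obtain ⟨a, ha, z, hz, hkz⟩ := hkH
  obtain ⟨i, rfl⟩ := hz
  have hconj : (k : G) * x * (k : G)⁻¹ = a * x * a⁻¹ := by rw [← hkz]; group
  rw [hconj] at hxkP
  obtain ⟨p, hp⟩ : ∃ p, p = c * (a * x * a⁻¹) := ⟨_, rfl⟩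
  have hpP : p ∈ (S.P : Subgroup G) := hp ▸ mul_mem hc hxkP
  have hpA : p ∈ A := by
    rw [hp, ← hxy, hyA,
      show x * (u⁻¹ * x) * (a * x * a⁻¹) = (x * u⁻¹ * x⁻¹) * ((x * x) * a * (x * x)⁻¹) * (x * (x * x)) * a⁻¹ by group,
      hx, mul_one]
    refine mul_mem (mul_mem (hxA' _ (inv_mem huA)) ?_) (inv_mem ha)
    rw [show x * x * a * (x * x)⁻¹ = x * (x * a * x⁻¹) * x⁻¹ by group]
    exact hxA' _ (hxA' _ ha)
  have hp1 : p ≠ 1 := fun e => hne' (isConj_iff.2 ⟨a, by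
    rw [hp] at e; exact eq_inv_of_mul_eq_one_right e⟩)
  have hpx : x * p = p * x := by
    have h1 := S.comm_P hK hxkP hpP
    have h2 := hab _ ha _ hpA
    calc x * p = a⁻¹ * (a * x * a⁻¹) * (a * p) := by group
      _ = a⁻¹ * ((a * x * a⁻¹) * p) * a := by rw [h2]; group
      _ = a⁻¹ * (p * (a * x * a⁻¹)) * a := by rw [h1]
      _ = a⁻¹ * (p * a) * x := by group
      _ = p * x := by rw [← h2]; group
  have hxP : x ∈ (S.P : Subgroup G) :=
    S.mem_of_cube (S.hC p hpP hp1 (mem_centralizer_singleton_iff.2 hpx)) hx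
  refine ⟨hxP, ?_⟩
  rw [show y = x⁻¹ * c by rw [← hxy]; group]
  exact mul_mem (inv_mem hxP) hc

/-- The number of pairs with a given product. -/
theorem pairs {a b c : K} (ha : Cube a) (ha1 : a ≠ 1) (hb : Cube b) (hb1 : b ≠ 1) (hc : Cube c) (hc1 : c ≠ 1)
    (hac : ¬ ConjK c⁻¹ a) :
    Nat.card {p : G × G // IsConj (S.φ a) p.1 ∧ IsConj (S.φ b) p.2 ∧ p.1 * p.2 = S.φ c} =
      (Finset.univ.filter fun k : K => Cube k ∧ ConjK k a ∧ ConjK (k⁻¹ * c) b).card := by
  rw [← Nat.card_eq_finsetCard]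
  have hcube : ∀ {d : K} {w : G}, Cube d → IsConj (S.φ d) w → w * (w * w) = 1 := by
    intro d w hd hw
    obtain ⟨g, rfl⟩ := isConj_iff.1 hw
    calc _ = g * (S.φ d * (S.φ d * S.φ d)) * g⁻¹ := by group
      _ = 1 := by rw [← map_mul, ← map_mul, hd, map_one]; group
  have hcinv : Cube c⁻¹ := by
    show c⁻¹ * (c⁻¹ * c⁻¹) = 1
    rw [show c⁻¹ * (c⁻¹ * c⁻¹) = (c * (c * c))⁻¹ by group, hc, inv_one]
  have hq : ∀ k : K, Cube k → Cube (k⁻¹ * c) := fun k hk => by
    refine (S.mem_iff hK _).1 ?_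
    rw [map_mul, map_inv]
    exact mul_mem (inv_mem ((S.mem_iff hK k).2 hk)) ((S.mem_iff hK c).2 hc)
  refine (Nat.card_congr (Equiv.ofBijective
    (fun k => (⟨(S.φ k.1, (S.φ k.1)⁻¹ * S.φ c), ?_⟩ :
      {p : G × G // IsConj (S.φ a) p.1 ∧ IsConj (S.φ b) p.2 ∧ p.1 * p.2 = S.φ c})) ⟨?_, ?_⟩)).symm
  · obtain ⟨h0, h1, h2⟩ := (Finset.mem_filter.1 k.2).2
    refine ⟨(S.conj_iff hK ha ha1 h0).2 h1, ?_, mul_inv_cancel_left _ _⟩
    rw [← map_inv, ← map_mul]
    exact (S.conj_iff hK hb hb1 (hq _ h0)).2 h2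
  · intro v w h
    exact Subtype.ext (S.inj (congrArg (fun z => z.1.1) h))
  · rintro ⟨⟨x, y⟩, h1, h2, h3⟩
    obtain ⟨hxP, -⟩ := S.triangle hK (hcube ha h1) (hcube hb h2) ((S.mem_iff hK c).2 hc) (S.φ_ne hK hc1) h3
      (fun h => hac ((S.conj_iff hK ha ha1 hcinv).1 (by rw [map_inv]; exact h1.trans h)))
    obtain ⟨k, hk, rfl⟩ := S.exists_el hK hxP
    have hy : y = (S.φ k)⁻¹ * S.φ c := eq_inv_mul_iff_mul_eq.2 h3
    subst hy
    refine ⟨⟨k, Finset.mem_filter.2 ⟨Finset.mem_univ _, hk, (S.conj_iff hK ha ha1 hk).1 h1, ?_⟩⟩, rfl⟩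
    have e : S.φ (k⁻¹ * c) = (S.φ k)⁻¹ * S.φ c := by rw [map_mul, map_inv]
    exact (S.conj_iff hK hb hb1 (hq _ hk)).1 (e ▸ h2)

/-- The sum in the class multiplication formula. -/
noncomputable def triSum [Fintype G] (a b c : K) : ℂ :=
  ∑ χ : Cfsg.IrrCharacter G,
    (χ : G → ℂ) (S.φ a) * (χ : G → ℂ) (S.φ b) * conj ((χ : G → ℂ) (S.φ c)) / (χ : G → ℂ) 1

theorem formula [Fintype G] {a b : K} (ha : Cube a) (ha1 : a ≠ 1) (hb : Cube b) (hb1 : b ≠ 1) (c : K) :
    (Nat.card {p : G × G // IsConj (S.φ a) p.1 ∧ IsConj (S.φ b) p.2 ∧ p.1 * p.2 = S.φ c} : ℂ) *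
      (((Finset.univ.filter fun k : K => k * a = a * k).card : ℂ) *
        ((Finset.univ.filter fun k : K => k * b = b * k).card : ℂ)) = (Nat.card G : ℂ) * S.triSum a b c := by
  have h := class_mult_formula (G := G) (S.φ a) (S.φ b) (S.φ c)
  have hG0 : (Nat.card G : ℂ) ≠ 0 := Nat.cast_ne_zero.2 Nat.card_pos.ne'
  have hcard : ∀ {r : K}, Cube r → r ≠ 1 → (Nat.card {x : G // IsConj (S.φ r) x} : ℂ) *
      ((Finset.univ.filter fun k : K => k * r = r * k).card : ℂ) = (Nat.card G : ℂ) := fun {r} hr hr1 => by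
    rw [← S.card_centralizer hK hr hr1]
    exact_mod_cast card_isConj_mul (S.φ r)
  rw [h]
  unfold triSum
  generalize (∑ χ : Cfsg.IrrCharacter G,
    (χ : G → ℂ) (S.φ a) * (χ : G → ℂ) (S.φ b) * conj ((χ : G → ℂ) (S.φ c)) / (χ : G → ℂ) 1) = T
  calc _ = ((Nat.card {x : G // IsConj (S.φ a) x} : ℂ) * ((Finset.univ.filter fun k : K => k * a = a * k).card : ℂ)) *
        ((Nat.card {x : G // IsConj (S.φ b) x} : ℂ) * ((Finset.univ.filter fun k : K => k * b = b * k).card : ℂ)) /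
        (Nat.card G : ℂ) * T := by ring
    _ = _ := by rw [hcard ha ha1, hcard hb hb1, mul_div_assoc, div_self hG0, mul_one]

theorem equation [Fintype G] {a b c : K} {ca cb N : ℕ} (ha : Cube a ∧ a ≠ 1) (hb : Cube b ∧ b ≠ 1)
    (hc : Cube c ∧ c ≠ 1) (hac : ¬ ConjK c⁻¹ a) (hca : (Finset.univ.filter fun k : K => k * a = a * k).card = ca)
    (hcb : (Finset.univ.filter fun k : K => k * b = b * k).card = cb)
    (hN : (Finset.univ.filter fun k : K => Cube k ∧ ConjK k a ∧ ConjK (k⁻¹ * c) b).card = N) :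
    ((N * (ca * cb) : ℕ) : ℂ) = (Nat.card G : ℂ) * S.triSum a b c := by
  have h := S.formula hK ha.1 ha.2 hb.1 hb.2 c
  rw [S.pairs hK ha.1 ha.2 hb.1 hb.2 hc.1 hc.2 hac, hN, hca, hcb] at h
  push_cast; exact h

/-- A sum with a pair in the subgroup is positive. -/
theorem triSum_pos [Fintype G] {a b c k : K} (ha : Cube a ∧ a ≠ 1) (hb : Cube b ∧ b ≠ 1)
    (h1 : ConjK k a) (h2 : ConjK (k⁻¹ * c) b) : ∃ q : ℚ, 0 < q ∧ S.triSum a b c = (q : ℂ) := by
  have h := S.formula hK ha.1 ha.2 hb.1 hb.2 c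
  obtain ⟨x, hx⟩ := h1; obtain ⟨y, hy⟩ := h2
  have hpos : 0 < Nat.card {p : G × G // IsConj (S.φ a) p.1 ∧ IsConj (S.φ b) p.2 ∧ p.1 * p.2 = S.φ c} := by
    refine Nat.card_pos_iff.2 ⟨⟨(S.φ k, S.φ (k⁻¹ * c)), isConj_iff.2 ⟨S.φ x, ?_⟩, isConj_iff.2 ⟨S.φ y, ?_⟩, ?_⟩,
      inferInstance⟩
    · rw [← hx, map_mul, map_mul, map_inv]
    · rw [← hy, map_mul, map_mul, map_inv]
    · rw [← map_mul, mul_inv_cancel_left]
  generalize Nat.card {p : G × G // IsConj (S.φ a) p.1 ∧ IsConj (S.φ b) p.2 ∧ p.1 * p.2 = S.φ c} = n at h hpos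
  have p1 : 0 < (Finset.univ.filter fun k : K => k * a = a * k).card := Finset.card_pos.2 ⟨1, by simp⟩
  have p2 : 0 < (Finset.univ.filter fun k : K => k * b = b * k).card := Finset.card_pos.2 ⟨1, by simp⟩
  refine ⟨(n : ℚ) * (((Finset.univ.filter fun k : K => k * a = a * k).card : ℚ) *
    ((Finset.univ.filter fun k : K => k * b = b * k).card : ℚ)) / (Nat.card G : ℚ), ?_, ?_⟩
  · have := Nat.card_pos (α := G); positivity
  · push_cast
    rw [h, mul_div_cancel_left₀]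
    exact Nat.cast_ne_zero.2 Nat.card_pos.ne'

theorem card_norm : Nat.card (normalizer ((S.P : Subgroup G) : Set G)) = Fintype.card K := by
  rw [← S.range, ← Nat.card_congr (MonoidHom.ofInjective S.inj).toEquiv, Nat.card_eq_fintype_card]

theorem card_eq : Nat.card G = Fintype.card K * (normalizer ((S.P : Subgroup G) : Set G)).index := by
  rw [← S.card_norm hK, card_mul_index]

/-- The number of cosets. -/
theorem index_mod : (normalizer ((S.P : Subgroup G) : Set G)).index % 9 = 1 := by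
  classical
  set N := normalizer ((S.P : Subgroup G) : Set G) with hNdef
  let J := (S.P : Subgroup G)
  have := Fintype.ofFinite (G ⧸ N)
  let X := {q : G ⧸ N // q ≠ (1 : G)}
  letI : MulAction J X :=
    { smul := fun j q => ⟨(j : G) • q.1, fun e => q.2 (by
        have e2 := congrArg (fun z => (j : G)⁻¹ • z) e
        simp only [inv_smul_smul] at e2
        rw [e2]
        exact (MulAction.Quotient.smul_mk _ (j : G)⁻¹ 1).trans
          (QuotientGroup.eq.2 (by simpa using Subgroup.le_normalizer j.2)))⟩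
      one_smul := fun q => Subtype.ext (one_smul G q.1)
      mul_smul := fun i j q => Subtype.ext (mul_smul (i : G) (j : G) q.1) }
  have hfree : ∀ q : X, MulAction.stabilizer J q = ⊥ := by
    rintro ⟨q, hq⟩
    obtain ⟨g, rfl⟩ := QuotientGroup.mk_surjective q
    refine eq_bot_iff.2 fun j hj => Subgroup.mem_bot.2 ?_
    by_contra hne
    have hgj : g⁻¹ * (j : G) * g ∈ N := by
      have e : (((j : G) * g : G) : G ⧸ N) = (g : G ⧸ N) := congrArg Subtype.val (MulAction.mem_stabilizer_iff.1 hj)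
      have := QuotientGroup.eq.1 e.symm
      simpa [mul_assoc] using this
    have hS : g⁻¹ * (j : G) * g ∈ J := S.mem_of_cube hgj (by
      calc _ = g⁻¹ * ((j : G) * (j * j)) * g := by group
        _ = 1 := by rw [S.cube_P hK j.2]; group)
    have hg := S.ti hK (g := g⁻¹) j.2 (fun e => hne (Subtype.ext e)) (by rw [inv_inv]; exact hS)
    exact hq (QuotientGroup.eq.2 (by simpa [hNdef] using hg))
  have hcard : Nat.card X = Nat.card (MulAction.orbitRel.Quotient J X) * 9 := by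
    rw [Nat.card_congr (MulAction.selfEquivSigmaOrbitsQuotientStabilizer J X), Nat.card_sigma]
    rw [Finset.sum_congr rfl (g := fun _ => 9) fun ω _ => by
      rw [hfree, Nat.card_congr QuotientGroup.quotientBot.toEquiv]; exact S.card9]
    simp [Nat.card_eq_fintype_card]
  have hi : N.index = Nat.card X + 1 := by
    rw [Subgroup.index, Nat.card_eq_fintype_card, Nat.card_eq_fintype_card, Fintype.card_subtype_compl]
    have := Fintype.card_pos (α := G ⧸ N)
    simp; omega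
  omega

end Setup

end Cfsg.Lib.Order9
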