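import Cfsg.Agent.LocalThree.Order9.Reduction
import Cfsg.Agent.LocalThree.Order9.Coords

/-!
Consequences for the hypotheses as stated.
-/

set_option autoImplicit false
set_option linter.unusedSectionVars false
set_option maxRecDepth 8000

namespace Cfsg.Lib.Order9

open Subgroup

universe u

variable {G : Type u} [Group G] [Finite G]

theorem pow24 : ∀ R R' : Mt, comp R R' = idm → (comp R)^[24] idm = idm := by decide +kernel

/-- A nonabelian automizer forces exponent three. -/
theorem exponent_three (P : Subgroup G) (h9 : Nat.card P = 9) (hcent : centralizer (P : Set G) = P)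
    (j : DihedralGroup 4 →* G) (hj : ∀ q, j q ∈ normalizer (P : Set G)) (hjP : ∀ q, j q ∈ P → q = 1) :
    ∀ a ∈ P, a * (a * a) = 1 := by
  intro a ha
  by_contra hne
  have hgen : zpowers a = P := by
    refine Subgroup.eq_of_le_of_card_ge (zpowers_le.2 ha) ?_
    rw [h9, Nat.card_zpowers]
    have hd : orderOf a ∣ 3 ^ 2 := by rw [show 3 ^ 2 = 9 from rfl, ← h9, ← Subgroup.orderOf_mk a ha]; exact orderOf_dvd_natCard _
    obtain ⟨i, hi, e⟩ := (Nat.dvd_prime_pow Nat.prime_three).1 hd
    have : i = 2 := by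
      by_contra hi2
      refine hne ?_
      have : orderOf a ∣ 3 := by
        rw [e]; exact (pow_dvd_pow 3 (show i ≤ 1 by omega)).trans (by norm_num)
      rw [← pow_two, ← pow_succ']
      exact orderOf_dvd_iff_pow_eq_one.1 this
    rw [e, this]; norm_num
  have hpow : ∀ q, ∃ i : ℤ, j q * a * (j q)⁻¹ = a ^ i := fun q => by
    have := (mem_normalizer_iff.1 (hj q) a).1 ha
    rw [← hgen] at this
    obtain ⟨i, hi⟩ := this
    exact ⟨i, hi.symm⟩
  choose f hf using hpow
  have hz : ∀ q (i : ℤ), j q * a ^ i * (j q)⁻¹ = a ^ (f q * i) := fun q i => by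
    rw [zpow_mul, ← hf q, conj_zpow]
  have hcomm : ∀ p q, j (p * q) * a * (j (p * q))⁻¹ = j (q * p) * a * (j (q * p))⁻¹ := fun p q => by
    rw [map_mul, map_mul, show j p * j q * a * (j p * j q)⁻¹ = j p * (j q * a * (j q)⁻¹) * (j p)⁻¹ by group,
      show j q * j p * a * (j q * j p)⁻¹ = j q * (j p * a * (j p)⁻¹) * (j q)⁻¹ by group, hf, hf, hz, hz, mul_comm]
  have hmem : j ((DihedralGroup.r 1 * DihedralGroup.sr 0)⁻¹ * (DihedralGroup.sr 0 * DihedralGroup.r 1)) ∈ P := by
    rw [← hcent, ← hgen, mem_centralizer_iff]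
    rintro _ ⟨i, rfl⟩
    refine (Commute.zpow_left ?_ i).eq
    show a * _ = _ * a
    have e := hcomm (DihedralGroup.r 1) (DihedralGroup.sr 0)
    rw [map_mul j _⁻¹, map_inv]
    generalize j (DihedralGroup.r 1 * DihedralGroup.sr 0) = x at e ⊢
    generalize j (DihedralGroup.sr 0 * DihedralGroup.r 1) = y at e ⊢
    calc a * (x⁻¹ * y) = x⁻¹ * (x * a * x⁻¹) * y := by group
      _ = x⁻¹ * y * a := by rw [e]; group
  exact absurd (hjP _ hmem) (by decide)

theorem main8 (P : Sylow 3 G) (h9 : Nat.card (P : Subgroup G) = 9)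
    (hcent : centralizer ((P : Subgroup G) : Set G) = P)
    (hC : ∀ t ∈ (P : Subgroup G), t ≠ 1 → centralizer ({t} : Set G) ≤ normalizer ((P : Subgroup G) : Set G))
    (j : DihedralGroup 4 →* G) (hj : ∀ q, j q ∈ normalizer ((P : Subgroup G) : Set G))
    (hjP : ∀ q, j q ∈ (P : Subgroup G) → q = 1)
    (hcard : Nat.card (normalizer ((P : Subgroup G) : Set G)) = 72) :
    (P : Subgroup G).Normal ∨ Nonempty (G ≃* Equiv.Perm (Fin 6)) := by
  obtain ⟨S, hS⟩ := setup8 P h9 (exponent_three _ h9 hcent j hj hjP) hC hcent j hj hjP hcard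
  exact hS ▸ S.main

/-- The automizer is a two-group. -/
theorem prime_of_automizer (P : Subgroup G) (h9 : Nat.card P = 9) (hexp : ∀ a ∈ P, a * (a * a) = 1)
    (hcent : centralizer (P : Set G) = P) {q : ℕ} [Fact q.Prime]
    (hq : q ∣ Nat.card (normalizer (P : Set G))) : q = 2 ∨ q = 3 := by
  obtain ⟨C⟩ := exists_coord P h9 hexp
  obtain ⟨⟨g, hg⟩, hgo⟩ := exists_prime_orderOf_dvd_card' q hq
  rw [Subgroup.orderOf_mk] at hgo
  have hiter : ∀ n : ℕ, C.mat (pow_mem hg n) = (comp (C.mat hg))^[n] idm := by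
    intro n
    induction n with
    | zero => exact (C.mat_congr (pow_zero g) _ (one_mem _)).trans (C.mat_one _)
    | succ n ih =>
      rw [C.mat_congr (pow_succ' g n) (pow_mem hg (n + 1)) (mul_mem hg (pow_mem hg n)), C.mat_mul hg (pow_mem hg n), ih,
        Function.iterate_succ_apply']
  have hinv : comp (C.mat hg) (C.mat (inv_mem hg)) = idm := by
    rw [← C.mat_mul]
    exact (C.mat_congr (mul_inv_cancel g) _ (one_mem _)).trans (C.mat_one _)
  have h24 : g ^ 24 ∈ P := hcent ▸ C.mat_eq_idm _ ((hiter 24).trans (pow24 _ _ hinv))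
  have h72 : g ^ 72 = 1 := by
    rw [show 72 = 24 * 3 from rfl, pow_mul, pow_succ', pow_two, hexp _ h24]
  have hd := orderOf_dvd_of_pow_eq_one h72
  rw [hgo, show 72 = 2 ^ 3 * 3 ^ 2 from rfl] at hd
  have hp : q.Prime := Fact.out
  rcases hp.dvd_mul.1 hd with h | h
  · exact Or.inl ((Nat.prime_dvd_prime_iff_eq hp Nat.prime_two).1 (hp.dvd_of_dvd_pow h))
  · exact Or.inr ((Nat.prime_dvd_prime_iff_eq hp Nat.prime_three).1 (hp.dvd_of_dvd_pow h))

theorem main8_sylow (P : Sylow 3 G) (h9 : Nat.card (P : Subgroup G) = 9) (hexp : ∀ a ∈ (P : Subgroup G), a ^ 3 = 1)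
    (hcent : centralizer ((P : Subgroup G) : Set G) = P)
    (hC : ∀ t ∈ (P : Subgroup G), t ≠ 1 → centralizer ({t} : Set G) ≤ normalizer ((P : Subgroup G) : Set G))
    (hS : ∀ S : Sylow 2 (normalizer ((P : Subgroup G) : Set G)), Nonempty (S ≃* DihedralGroup 4)) :
    (P : Subgroup G).Normal ∨ Nonempty (G ≃* Equiv.Perm (Fin 6)) := by
  have : Fact (Nat.Prime 2) := ⟨Nat.prime_two⟩
  have hexp' : ∀ a ∈ (P : Subgroup G), a * (a * a) = 1 := fun a ha => by
    rw [← pow_two, ← pow_succ']; exact hexp a ha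
  obtain ⟨S⟩ := (inferInstance : Nonempty (Sylow 2 (normalizer ((P : Subgroup G) : Set G))))
  obtain ⟨e⟩ := hS S
  have hSc : Nat.card S = 8 := by rw [Nat.card_congr e.toEquiv, DihedralGroup.nat_card]
  let j : DihedralGroup 4 →* G :=
    ((normalizer ((P : Subgroup G) : Set G)).subtype.comp (S : Subgroup _).subtype).comp e.symm.toMonoidHom
  refine main8 P h9 hcent hC j (fun q => ((e.symm q : S) : normalizer ((P : Subgroup G) : Set G)).2) (fun q hq => ?_) ?_
  · have h1 : orderOf (j q) ∣ 9 := by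
      rw [← h9, ← Subgroup.orderOf_mk (j q) hq]; exact orderOf_dvd_natCard _
    have h2 : orderOf (j q) ∣ 8 := by
      have : Function.Injective j := (Subgroup.subtype_injective _).comp
        ((Subgroup.subtype_injective _).comp e.symm.injective)
      rw [orderOf_injective j this]
      have := orderOf_dvd_natCard q
      rwa [DihedralGroup.nat_card] at this
    have h3 := Nat.dvd_gcd h1 h2
    rw [show Nat.gcd 9 8 = 1 from rfl, Nat.dvd_one, orderOf_eq_one_iff] at h3
    have : (e.symm q) = 1 := Subtype.ext (Subtype.ext h3)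
    simpa using congrArg e this
  · have hpos : 0 < Nat.card (normalizer ((P : Subgroup G) : Set G)) := Nat.card_pos
    have h2 := S.card_eq_multiplicity
    rw [hSc] at h2
    have h3 : (Nat.card (normalizer ((P : Subgroup G) : Set G))).factorization 3 = 2 := by
      have : Fact (Nat.Prime 3) := ⟨Nat.prime_three⟩
      have := (P.subtype (Subgroup.le_normalizer)).card_eq_multiplicity
      rw [Sylow.coe_subtype, Nat.card_congr (subgroupOfEquivOfLe Subgroup.le_normalizer).toEquiv, h9] at this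
      exact (Nat.pow_right_injective (le_of_lt (show 2 < 3 by norm_num)) (this.symm.trans (show (9 : ℕ) = 3 ^ 2 from rfl)))
    have h2' : (Nat.card (normalizer ((P : Subgroup G) : Set G))).factorization 2 = 3 :=
      Nat.pow_right_injective (le_refl 2) (h2.symm.trans (show (8 : ℕ) = 2 ^ 3 from rfl))
    refine Nat.eq_of_factorization_eq hpos.ne' (by norm_num) fun q => ?_
    have h72 : (72 : ℕ).factorization = Finsupp.single 2 3 + Finsupp.single 3 2 := by
      rw [show (72 : ℕ) = 2 ^ 3 * 3 ^ 2 from rfl, Nat.factorization_mul (by norm_num) (by norm_num),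
        Nat.prime_two.factorization_pow, Nat.prime_three.factorization_pow]
    rw [h72]
    by_cases e2 : q = 2
    · rw [e2, h2']; simp
    by_cases e3 : q = 3
    · rw [e3, h3]; simp
    simp [Ne.symm e2, Ne.symm e3]
    by_contra hne
    have hqp : q.Prime := by
      by_contra hnp
      exact hne (Nat.factorization_eq_zero_of_not_prime _ hnp)
    have : Fact q.Prime := ⟨hqp⟩
    rcases prime_of_automizer (P : Subgroup G) h9 hexp' hcent
      (Nat.dvd_of_factorization_pos hne) with h | h <;> omega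

end Cfsg.Lib.Order9
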